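import Groth.Agent.KSix16.AmpNhd
import Groth.Agent.EGA43.Cons.FibreCritScheme
import Groth.Agent.FlatCx12.AmpThickRing
import Groth.Agent.DCat.CohDimShift

/-!
# Tor amplitude over the middle of a flat composite from the amplitude on the fibre
-/

set_option autoImplicit false
set_option backward.isDefEq.respectTransparency false
set_option backward.defeqAttrib.useBackward true
set_option linter.style.haveILetI false
set_option synthInstance.maxHeartbeats 100000
set_option backward.isDefEq.respectTransparency.types false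

universe u

open CategoryTheory CategoryTheory.Limits CategoryTheory.Pretriangulated DerivedCategory AlgebraicGeometry
open Groth.Agent.DCat Groth.Agent.FlatCx12.RelPCChart Groth.Agent.FlatCx12.RelPCOps Groth.Agent.FlatCx12.RelPCTri
open Groth.Agent.FlatCx12.EmbPush HomologicalComplex

attribute [local instance] HasDerivedCategory.standard
attribute [-instance] Int.instConditionallyCompleteLinearOrder

namespace Groth.Agent.KSix16.AmpFibreCrit

open TensorProduct in
/-- The fibre of the lowest term is flat. -/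
theorem flat_bottom_fibre {A B : Type u} [CommRing A] [CommRing B] (σ : A →+* B) (hσ : σ.Flat) (m : Ideal A)
    (C : DRing.Cx B) {a b b' : ℤ} (hab' : a ≤ b') (hlt : ∀ i, i < a → IsZero (C.X i)) (hgt : ∀ i, b' < i → IsZero (C.X i))
    (hf : ∀ i, a < i → Module.Flat B (C.X i))
    (hM : Module.Flat A ((ModuleCat.restrictScalars.{u} σ).obj (C.X a)))
    [DRing.HasLBaseChange (Ideal.Quotient.mk (m.map σ))]
    (h : DRing.HasTorAmplitudeIn (B ⧸ m.map σ) a b
      ((DRing.LBaseChange (Ideal.Quotient.mk (m.map σ))).obj (DRing.toD C))) :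
    Module.Flat (B ⧸ m.map σ) ((C.X a) ⧸ (m.map σ • (⊤ : Submodule B (C.X a)))) := by
  let π := Ideal.Quotient.mk (m.map σ)
  let τ := Ideal.Quotient.mk m
  let σ' : A ⧸ m →+* B ⧸ m.map σ := Ideal.Quotient.lift m (π.comp σ)
    fun x hx => Ideal.Quotient.eq_zero_iff_mem.2 (Ideal.mem_map_of_mem σ hx)
  have hc : σ'.comp τ = π.comp σ := RingHom.ext fun x => rfl
  have hker : RingHom.ker π = (RingHom.ker τ).map σ := by rw [Ideal.mk_ker, Ideal.mk_ker]
  have hp := FlatCx12.AmpThickRing.isCocartesian_of_surjective σ τ π σ' hc Ideal.Quotient.mk_surjective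
    Ideal.Quotient.mk_surjective hker
  let F := ModuleCat.extendScalars.{u, u, u} π
  let E := F.mapHomologicalComplex (ComplexShape.up ℤ)
  obtain ⟨P, c, hP, hPf, hc', hPb⟩ := exists_kflat_le C b' hgt
  haveI := hc'
  let Z := CochainComplex.mappingCone c
  let r := ModuleCat.restrictScalars.{u} σ
  let Z₀ := (r.mapHomologicalComplex (ComplexShape.up ℤ)).obj Z
  have hCf : ∀ i, Module.Flat A (r.obj (C.X i)) := fun i => by
    rcases lt_trichotomy i a with hi | rfl | hi
    · haveI := ModuleCat.subsingleton_of_isZero (r.map_isZero (hlt i hi))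
      infer_instance
    · exact hM
    · haveI := hf i hi
      exact FlatCx12.AmpThickRing.flat_restrict hσ (C.X i)
  haveI := preservesBinaryBiproducts_of_preservesBinaryProducts r
  have hZf : ∀ i, Module.Flat A (Z₀.X i) := fun i => by
    haveI := hPf (i + 1)
    exact (Module.Flat.equiv_iff (r.mapIso (HomologicalComplex.homotopyCofiber.XIsoBiprod c i (i + 1) rfl) ≪≫
      r.mapBiprod _ _).toLinearEquiv).2
        (ExternalAmp.flat_prod_cat (R := CommRingCat.of A) (r.obj (P.X (i + 1))) (r.obj (C.X i)) (FlatCx12.AmpThickRing.flat_restrict hσ (P.X (i + 1))) (hCf i))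
  have hZb : DRing.VanishesAbove Z₀ b' := fun i hi => r.map_isZero
    ((IsZero.iff_id_eq_zero _).2 (CochainComplex.mappingCone.ext_to _ i (i + 1) rfl
      ((hPb (i + 1) (by omega)).eq_of_tgt _ _) ((hgt i hi).eq_of_tgt _ _)))
  have hZ0 : IsZero (DRing.toD Z₀) := by
    refine IsZero.of_iso ?_ (r.mapDerivedCategoryFactors.app Z).symm
    refine Functor.map_isZero r.mapDerivedCategory ?_
    exact (Triangle.isZero₃_iff_isIso₁ _ (DerivedCategory.mappingCone_triangle_distinguished c)).2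
      (Localization.inverts DerivedCategory.Q (HomologicalComplex.quasiIso (ModuleCat.{u} B) (ComplexShape.up ℤ)) _
        ((HomologicalComplex.mem_quasiIso_iff _).2 hc'))
  haveI := hasLBaseChange τ
  let N : DRing.Cx A := HomologicalComplex.zero
  have hN : IsZero N := HomologicalComplex.isZero_zero
  have hNb : DRing.VanishesAbove N b' := fun i _ => (HomologicalComplex.eval _ _ i).map_isZero hN
  have hNf : ∀ i, Module.Flat A (N.X i) := fun i => by
    haveI : Subsingleton (N.X i) := ModuleCat.subsingleton_of_isZero (M := N.X i)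
      ((HomologicalComplex.eval (ModuleCat.{u} A) _ i).map_isZero hN)
    infer_instance
  have hexB : ∀ i, (E.obj Z).ExactAt i := fun i => by
    have h1 : IsZero (DRing.toD (((ModuleCat.extendScalars.{u, u, u} τ).mapHomologicalComplex (ComplexShape.up ℤ)).obj Z₀)) :=
      ((DerivedCategory.Q.map_isZero (((ModuleCat.extendScalars.{u, u, u} τ).mapHomologicalComplex
        (ComplexShape.up ℤ)).map_isZero hN)).of_iso ((lbaseChangeIso τ (isKFlatFor_of_vanishesAbove Z₀ b' hZb hZf)).symm ≪≫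
          (DRing.LBaseChange τ).mapIso (hZ0.iso (DerivedCategory.Q.map_isZero hN)) ≪≫
          lbaseChangeIso τ (isKFlatFor_of_vanishesAbove N b' hNb hNf)))
    have h2 := (DCat.isZero_homology_toD_iff _ i).1 ((DerivedCategory.homologyFunctor _ i).map_isZero h1)
    have h3 := h2.of_iso ((NatIso.mapHomologicalComplex
      (RelPC.extRestrictIso A (A ⧸ m) B (B ⧸ m.map σ) σ τ π σ' hc hp) (ComplexShape.up ℤ)).app Z)
    rw [HomologicalComplex.exactAt_iff] at h3 ⊢
    exact (ShortComplex.exact_map_iff_of_faithful _ (ModuleCat.restrictScalars.{u} σ')).1 h3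
  have hiso : IsIso (DerivedCategory.Q.map (E.map c)) := by
    refine (Triangle.isZero₃_iff_isIso₁ _ (DerivedCategory.mappingCone_triangle_distinguished (E.map c))).1 ?_
    refine IsZero.of_iso ?_ (DerivedCategory.Q.mapIso (CochainComplex.mappingCone.mapHomologicalComplexIso c F)).symm
    exact DCat.CohDimShift.isZero_Q_of_acyclic _ hexB
  haveI := hiso
  haveI : IsIso (DerivedCategory.Q.map c) := Localization.inverts DerivedCategory.Q
    (HomologicalComplex.quasiIso (ModuleCat.{u} B) (ComplexShape.up ℤ)) _ ((HomologicalComplex.mem_quasiIso_iff _).2 hc')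
  have hamp : DRing.HasTorAmplitudeIn (B ⧸ m.map σ) a b (DRing.toD (E.obj C)) :=
    FlatCx12.TorAmpComp.amp_iso ((DRing.LBaseChange π).mapIso (asIso (DerivedCategory.Q.map c)).symm ≪≫
      lbaseChangeIso π hP ≪≫ asIso (DerivedCategory.Q.map (E.map c))) h
  have hfl := AmpNhd.flat_bottom (E.obj C) hamp (fun i hi => F.map_isZero (hlt i hi)) (fun i hi => F.map_isZero (hgt i hi))
    fun i hi => by
      letI := π.toAlgebra
      haveI := hf i hi
      exact Module.Flat.baseChange (R := B) (S := B ⧸ m.map σ) (M := C.X i)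
  haveI : Module.Flat (B ⧸ m.map σ) ((B ⧸ m.map σ) ⊗[B] (C.X a)) := hfl
  exact Module.Flat.of_linearEquiv
    (LinearEquiv.extendScalarsOfSurjective (S := B ⧸ m.map σ) Ideal.Quotient.mk_surjective
      (TensorProduct.quotTensorEquivQuotSMul (C.X a) (m.map σ))).symm

variable {A Y S : Scheme.{u}}

/-- Tor amplitude on the fibre through a point of the base. -/
def FibAmpAt (g : Y ⟶ S) (a b : ℤ) (y : Y) (K : Dual.D (Y.presheaf.stalk y)) : Prop :=
  haveI := hasLBaseChange (Ideal.Quotient.mk (Ideal.map (g.stalkMap y).hom (IsLocalRing.maximalIdeal (S.presheaf.stalk (g y)))))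
  DRing.HasTorAmplitudeIn (Y.presheaf.stalk y ⧸ Ideal.map (g.stalkMap y).hom (IsLocalRing.maximalIdeal (S.presheaf.stalk (g y)))) a b
    ((DRing.LBaseChange (Ideal.Quotient.mk (Ideal.map (g.stalkMap y).hom (IsLocalRing.maximalIdeal (S.presheaf.stalk (g y)))))).obj K)

theorem fib_iso (g : Y ⟶ S) {a b : ℤ} {y : Y} {K L : Dual.D (Y.presheaf.stalk y)} (e : K ≅ L) (h : FibAmpAt g a b y K) :
    FibAmpAt g a b y L :=
  haveI := hasLBaseChange (Ideal.Quotient.mk (Ideal.map (g.stalkMap y).hom (IsLocalRing.maximalIdeal (S.presheaf.stalk (g y)))))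
  FlatCx12.TorAmpComp.amp_iso ((DRing.LBaseChange _).mapIso e) h

theorem fib_congr_hom (g : Y ⟶ S) {f f' : A ⟶ Y} (w : f = f') {F : CochainComplex A.Modules ℤ} {a b : ℤ} {x : A}
    (h : FibAmpAt g a b (f x) (DRing.toD ((DerSch.stalkCxOver f x).obj F))) :
    FibAmpAt g a b (f' x) (DRing.toD ((DerSch.stalkCxOver f' x).obj F)) := by
  subst w
  exact h

/-- Amplitude over the middle from amplitude over the base and on the fibre, on a flat model. -/
theorem amp_of_fibre (q : A ⟶ Y) (g : Y ⟶ S) [Flat q] [LocallyOfFinitePresentation q] [Flat g]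
    [LocallyOfFinitePresentation g] (R : CochainComplex A.Modules ℤ)
    {a b : ℤ} (hR : ∀ i, i < a ∨ b < i → R.ExactAt i) (h : DCoh.IsPseudoCoherentD (a - 1) (DCoh.toD A R)) (z : A)
    (hz : DerSch.HasTorAmplitudeAt (q ≫ g) a b R z)
    (hfib : FibAmpAt g a b (q z) (DRing.toD ((DerSch.stalkCxOver q z).obj R))) :
    DerSch.HasTorAmplitudeAt q a b R z := by
  obtain ⟨W, k, _, ⟨w₀, hw₀⟩, E, α, hE, hα⟩ := (PerfLocal.isPseudoCoherentD_iff (a - 1) _).1 h z
  subst hw₀
  let q₁ := k ≫ q
  let F := (Scheme.Modules.restrictFunctor k).mapHomologicalComplex (ComplexShape.up ℤ)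
  let φ := (Scheme.Modules.restrictFunctor k).mapDerivedCategoryFactors.app R
  have hR₁ : ∀ i, i < a ∨ b < i → (F.obj R).ExactAt i := fun i hi => by
    haveI := PullPerf.preservesFiniteLimits_restrict k
    have h1 := hR i hi
    rw [HomologicalComplex.exactAt_iff] at h1 ⊢
    exact h1.map (Scheme.Modules.restrictFunctor k)
  obtain ⟨G, b', ⟨e⟩, hab', hlt, hgt, hlf, hq, hfp⟩ := AmpNhd.exists_trunc (F.obj R) (fun i hi => hR₁ i (Or.inl hi)) E
    (α ≫ φ.hom) hE ⟨fun i hi => by haveI := hα.1 i hi; rw [Functor.map_comp]; infer_instance,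
      by haveI := hα.2; rw [Functor.map_comp]; infer_instance⟩
  haveI := hq
  have hfl : ∀ i, a < i → FlatMod.IsFlat (G.X i) := fun i hi =>
    haveI := CAlgH3.LocFreeFactor.isQCoh_of_finLocFree (hlf i hi)
    Props12.isFlat_of_isFinLocFree _ (hlf i hi)
  have hS : FlatMod.IsFlatOverAt (q₁ ≫ g) (G.X a) w₀ :=
    AmpNhd.flatAt_bottom (q₁ ≫ g) G hlt hgt hfl w₀ (FlatCx12.AmpThick.amp_congr (q₁ ≫ g) w₀ e.symm
      (Dual22Lib.RelAmpStalk.amp_congr_hom (Category.assoc k q g).symm
        ((Dual22Lib.RelAmpStalk.amp_restrict_iff (q ≫ g) k R a b w₀).2 hz)))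
  obtain ⟨s⟩ := FlatCx12.AmpFibre.nonempty_stalk_restrict q k R w₀
  obtain ⟨s'⟩ := FlatCx12.AmpThick.nonempty_stalk_iso q₁ w₀ e.symm
  have hG : FibAmpAt g a b (q₁ w₀) (DRing.toD ((DerSch.stalkCxOver q₁ w₀).obj G)) := fib_iso g (s ≪≫ s') hfib
  haveI := hasLBaseChange (Ideal.Quotient.mk (Ideal.map (g.stalkMap (q₁ w₀)).hom
    (IsLocalRing.maximalIdeal (S.presheaf.stalk (g (q₁ w₀))))))
  let T := DerSch.stalkOver q₁ w₀
  have hF : EGA43.Cons.IsFibFlatAt q₁ g (G.X a) w₀ :=
    flat_bottom_fibre (g.stalkMap (q₁ w₀)).hom (Flat.stalkMap g (q₁ w₀))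
      (IsLocalRing.maximalIdeal (S.presheaf.stalk (g (q₁ w₀)))) ((DerSch.stalkCxOver q₁ w₀).obj G) hab'
      (fun i hi => T.map_isZero (hlt i hi)) (fun i hi => T.map_isZero (hgt i hi))
      (fun i hi => by
        haveI : Module.Flat (W.presheaf.stalk w₀) ((DerSch.stalkFunctor W w₀).obj (G.X i)) := hfl i hi w₀
        exact FlatCx12.PushStalk.flat_restrict _ (Flat.stalkMap q₁ w₀) ((DerSch.stalkFunctor W w₀).obj (G.X i)))
      (by
        have hc : ((q₁ ≫ g).stalkMap w₀).hom = (q₁.stalkMap w₀).hom.comp (g.stalkMap (q₁ w₀)).hom := by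
          rw [Scheme.Hom.stalkMap_comp]; rfl
        exact (Module.Flat.equiv_iff ((ModuleCat.restrictScalarsComp' (g.stalkMap (q₁ w₀)).hom (q₁.stalkMap w₀).hom
          ((q₁ ≫ g).stalkMap w₀).hom hc).app ((DerSch.stalkFunctor W w₀).obj (G.X a))).toLinearEquiv).1 hS)
      hG
  exact (Dual22Lib.RelAmpStalk.amp_restrict_iff q k R a b w₀).1
    (AmpNhd.amp_at q₁ (F.obj R) G e (fun i hi => hR₁ i (Or.inr hi)) hlt hgt hfl w₀
      (EGA43.Cons.isFlatOverAt_of_isFibFlatAt q₁ g (G.X a) hfp w₀ hS hF))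

variable {X : Scheme.{u}}

/-- The same in chart form. -/
theorem amp_of_fibre_rel (f : X ⟶ Y) [LocallyOfFiniteType f] (g : Y ⟶ S) [Flat g] [LocallyOfFinitePresentation g]
    (F : CochainComplex X.Modules ℤ) {a b : ℤ}
    (h : DerSch.IsPseudoCoherentRel f (a - 1) (DCoh.toD X F))
    (hH : ∀ i : ℤ, i < a ∨ b < i → IsZero (DCoh.HD (DCoh.toD X F) i)) (x : X)
    (hx : DerSch.HasTorAmplitudeAt (f ≫ g) a b F x)
    (hfib : FibAmpAt g a b (f x) (DRing.toD ((DerSch.stalkCxOver f x).obj F))) :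
    DerSch.HasTorAmplitudeAt f a b F x := by
  obtain ⟨U, V, hle, hxU⟩ := exists_affine_pair f x
  algebraize [(f.appLE V U hle).hom]
  obtain ⟨n, π, hπ⟩ := Algebra.FiniteType.iff_quotient_mvPolynomial''.1
    (show Algebra.FiniteType Γ(Y, V.1) Γ(X, U.1) from f.finiteType_appLE V.2 U.2 hle)
  let c : Chart f := ⟨U, V, hle, n, π.toRingHom, hπ, RingHom.ext fun r => π.commutes r⟩
  haveI : IsClosedImmersion c.imm := isClosedImmersion_along c.U.2 c.isChart.1
  let g₀ : Spec (CommRingCat.of (MvPolynomial (Fin c.n) Γ(Y, (c.V : Y.Opens)))) ⟶ Spec Γ(Y, (c.V : Y.Opens)) :=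
    Spec.map (CommRingCat.ofHom (MvPolynomial.C : Γ(Y, (c.V : Y.Opens)) →+* _))
  haveI : Flat g₀ := by
    rw [HasRingHomProperty.Spec_iff (P := @Flat)]
    show RingHom.Flat (algebraMap Γ(Y, (c.V : Y.Opens)) (MvPolynomial (Fin c.n) Γ(Y, (c.V : Y.Opens))))
    rw [RingHom.flat_algebraMap_iff]
    infer_instance
  haveI : LocallyOfFinitePresentation g₀ := by
    rw [HasRingHomProperty.Spec_iff (P := @LocallyOfFinitePresentation)]
    show RingHom.FinitePresentation (algebraMap Γ(Y, (c.V : Y.Opens)) (MvPolynomial (Fin c.n) Γ(Y, (c.V : Y.Opens))))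
    rw [RingHom.finitePresentation_algebraMap]
    infer_instance
  let p : c.space ⟶ Y := chartBase c
  haveI : Flat p := inferInstanceAs (Flat (g₀ ≫ _))
  haveI : LocallyOfFinitePresentation p := inferInstanceAs (LocallyOfFinitePresentation (g₀ ≫ _))
  have himm : c.imm ≫ p = (c.U : X.Opens).ι ≫ f := imm_chartBase c
  let FU := ((Scheme.Modules.restrictFunctor (c.U : X.Opens).ι).mapHomologicalComplex (ComplexShape.up ℤ)).obj F
  let R := ((Scheme.Modules.pushforward c.imm).mapHomologicalComplex (ComplexShape.up ℤ)).obj FU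
  let φ : c.fn.obj (DCoh.toD X F) ≅ DCoh.toD c.space R := fnQIso c F
  have hR : ∀ i, i < a ∨ b < i → R.ExactAt i := fun i hi => by
    rw [← DCat.isZero_HD_toD_iff]
    exact (((mfun c).map_isZero (hH i hi)).of_iso (fnHomIso c _ i)).of_iso
      ((DerivedCategory.homologyFunctor _ i).mapIso φ.symm)
  let v : (c.U : X.Opens).toScheme := ⟨x, hxU⟩
  obtain ⟨t⟩ := FlatCx12.PushStalk.nonempty_stalkOverPushIso c.imm p v
  let t' : (DerSch.stalkCxOver (c.imm ≫ p) v).obj FU ≅ (DerSch.stalkCxOver p (c.imm v)).obj R :=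
    Hom.isoOfComponents (fun n => (t.app (FU.X n)).symm) (fun i j _ => (t.inv.naturality (FU.d i j)).symm)
  obtain ⟨s⟩ := FlatCx12.AmpFibre.nonempty_stalk_restrict f (c.U : X.Opens).ι F v
  have h0 : FibAmpAt g a b (((c.U : X.Opens).ι ≫ f) v) (DRing.toD ((DerSch.stalkCxOver ((c.U : X.Opens).ι ≫ f) v).obj FU)) :=
    fib_iso g s hfib
  have hz := amp_of_fibre p g R hR (PCTriangle.psc_iso φ ((rel_iff_chart _ _).1 h c)) (c.imm v)
    ((FlatCx12.PushStalk.amp_push_iff c.imm (p ≫ g) FU a b v).2 (Dual22Lib.RelAmpStalk.amp_congr_hom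
      (by rw [← Category.assoc c.imm, himm, Category.assoc])
      ((Dual22Lib.RelAmpStalk.amp_restrict_iff (f ≫ g) (c.U : X.Opens).ι F a b v).2 hx)))
    (fib_iso g (DerivedCategory.Q.mapIso t') (fib_congr_hom g himm.symm h0))
  exact (Dual22Lib.RelAmpStalk.amp_restrict_iff f (c.U : X.Opens).ι F a b v).1
    (Dual22Lib.RelAmpStalk.amp_congr_hom himm ((FlatCx12.PushStalk.amp_push_iff c.imm p FU a b v).1 hz))

end Groth.Agent.KSix16.AmpFibreCrit
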