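import Groth.Agent.Dual22Lib.RelPerfPush
import Groth.Agent.FlatCx12.RelPCRestrict
import Groth.Agent.FlatCx12.RelPCThick
import Groth.Agent.DCat.OpenDerived
import Mathlib.AlgebraicGeometry.ZariskisMainTheorem

/-!
# Direct images of relatively pseudo-coherent objects along projective morphisms, arbitrary base
-/

set_option autoImplicit false
set_option backward.isDefEq.respectTransparency false
set_option linter.style.haveILetI false
set_option synthInstance.maxHeartbeats 100000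

universe u

open CategoryTheory CategoryTheory.Limits DerivedCategory AlgebraicGeometry
open Groth.Agent.DCat Groth.Agent.FlatCx12.RelPCOps Groth.Agent.FlatCx12.RelPCChart Groth.Agent.FlatCx12.EmbPush

attribute [local instance] HasDerivedCategory.standard
attribute [-instance] Int.instConditionallyCompleteLinearOrder

namespace Groth.Agent.KSix16

variable {X Y S : Scheme.{u}}

theorem flat_affineSpace_toSpec (R : CommRingCat.{u}) (n : ℕ) :
    Flat (Spec.map (CommRingCat.ofHom (MvPolynomial.C : R →+* MvPolynomial (Fin n) R))) := by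
  rw [HasRingHomProperty.Spec_iff (P := @Flat)]
  show RingHom.Flat (algebraMap R (MvPolynomial (Fin n) R))
  rw [RingHom.flat_algebraMap_iff]
  infer_instance

theorem lfp_affineSpace_toSpec (R : CommRingCat.{u}) (n : ℕ) :
    LocallyOfFinitePresentation (Spec.map (CommRingCat.ofHom (MvPolynomial.C : R →+* MvPolynomial (Fin n) R))) := by
  rw [HasRingHomProperty.Spec_iff (P := @LocallyOfFinitePresentation)]
  show RingHom.FinitePresentation (algebraMap R (MvPolynomial (Fin n) R))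
  rw [RingHom.finitePresentation_algebraMap]
  infer_instance

theorem psc_Rpush_congr {P : Scheme.{u}} {g g' : X ⟶ P} (h : g = g') [DCoh.HasRpush g] [DCoh.HasRpush g']
    {m : ℤ} {E : DCoh.D X} (hp : DCoh.IsPseudoCoherentD m ((DCoh.Rpush g').obj E)) :
    DCoh.IsPseudoCoherentD m ((DCoh.Rpush g).obj E) := by
  subst h; exact hp

/-- The structure map of the affine space of a chart. -/
noncomputable abbrev chartBase {q : Y ⟶ S} (c : Chart q) : c.space ⟶ S :=
  Spec.map (CommRingCat.ofHom (MvPolynomial.C : Γ(S, (c.V : S.Opens)) →+* _)) ≫ c.V.2.fromSpec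

theorem imm_chartBase {q : Y ⟶ S} (c : Chart q) : c.imm ≫ chartBase c = (c.U : Y.Opens).ι ≫ q := by
  rw [Category.assoc, ← Category.assoc (Spec.map _), ← Spec.map_comp, ← CommRingCat.ofHom_comp, c.isChart.2,
    CommRingCat.ofHom_hom, ← Category.assoc, Scheme.Opens.toSpecΓ_SpecMap_appLE, Category.assoc,
    c.V.2.toSpecΓ_fromSpec, Scheme.Hom.resLE_comp_ι]

/-- Relative pseudo-coherence of direct images along projective morphisms. -/
theorem rel_Rpush_proj (q : Y ⟶ S) [LocallyOfFiniteType q] (r : ℕ) (i : X ⟶ CohB1.ProjSpaceOver r Y)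
    [IsClosedImmersion i] [DCoh.HasRpush (i ≫ CohB1.ProjSpaceOver.toBase r Y)] (E : DCoh.D X)
    (hE : DerSch.IsPseudoCoherentRelAll ((i ≫ CohB1.ProjSpaceOver.toBase r Y) ≫ q) E) :
    DerSch.IsPseudoCoherentRelAll q ((DCoh.Rpush (i ≫ CohB1.ProjSpaceOver.toBase r Y)).obj E) := by
  intro m
  rw [rel_iff_chart]
  intro c
  haveI := RelVALib.isProper_toBase r Y
  let f := i ≫ CohB1.ProjSpaceOver.toBase r Y
  haveI : IsProper f := inferInstanceAs (IsProper (i ≫ _))
  let U : Y.Opens := c.U.1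
  haveI := hasRpush (f ∣_ U)
  haveI := hasRpush c.imm
  haveI := hasRpush ((f ∣_ U) ≫ c.imm)
  haveI := PullPerf.preservesFiniteLimits_restrict U.ι
  haveI := PullPerf.preservesFiniteLimits_restrict (f ⁻¹ᵁ U).ι
  obtain ⟨β⟩ := nonempty_RpushComp (f ∣_ U) c.imm
  obtain ⟨a⟩ := FlatCx12.RelPCThick.nonempty_Rpush_pd c.imm ((PerfLocal.rd U.ι).obj ((DCoh.Rpush f).obj E))
  refine PCTriangle.psc_iso (a.symm ≪≫ (DCoh.Rpush c.imm).mapIso ((OpenDerived.rpushRestrictIso f U).app E) ≪≫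
    β.app _).symm ?_
  let A := c.space
  let g : (f ⁻¹ᵁ U).toScheme ⟶ A := (f ∣_ U) ≫ c.imm
  haveI : IsProper g := inferInstanceAs (IsProper (_ ≫ _))
  let j : (f ⁻¹ᵁ U).toScheme ⟶ CohB1.ProjSpaceOver r A :=
    pullback.lift ((f ⁻¹ᵁ U).ι ≫ i ≫ pullback.fst _ _) g (specULiftZIsTerminal.hom_ext _ _)
  have hj : j ≫ CohB1.ProjSpaceOver.toBase r A = g := pullback.lift_snd _ _ _
  haveI := RelVALib.isProper_toBase r A
  haveI := Coherent.flat_toBase (n := r) A
  haveI := Dual22Lib.PscPushApps.locallyOfFinitePresentation_toBase r A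
  haveI : IsProper j := by
    haveI : IsProper (j ≫ CohB1.ProjSpaceOver.toBase r A) := by rw [hj]; infer_instance
    exact IsProper.of_comp j (CohB1.ProjSpaceOver.toBase r A)
  haveI : Mono j := ⟨fun a b hab => by
    have h₁ : a ≫ g = b ≫ g := by rw [← hj, ← Category.assoc, hab, Category.assoc]
    have h₂ : a ≫ (f ∣_ U) = b ≫ (f ∣_ U) := (cancel_mono c.imm).1 (by simpa [g, Category.assoc] using h₁)
    have hfst : j ≫ pullback.fst _ _ = (f ⁻¹ᵁ U).ι ≫ i ≫ pullback.fst _ _ := pullback.lift_fst _ _ _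
    have h₃ : a ≫ (f ⁻¹ᵁ U).ι ≫ i = b ≫ (f ⁻¹ᵁ U).ι ≫ i := by
      refine pullback.hom_ext ?_ ?_
      · simp only [Category.assoc]
        rw [← hfst, ← Category.assoc, hab, Category.assoc]
      · have hf : (f ∣_ U) ≫ U.ι = (f ⁻¹ᵁ U).ι ≫ f := morphismRestrict_ι f U
        simp only [Category.assoc]
        show a ≫ (f ⁻¹ᵁ U).ι ≫ f = b ≫ (f ⁻¹ᵁ U).ι ≫ f
        rw [← hf, ← Category.assoc, h₂, Category.assoc]
    rw [← cancel_mono ((f ⁻¹ᵁ U).ι ≫ i)]
    exact h₃⟩
  haveI : IsClosedImmersion j := (IsClosedImmersion.iff_isProper_and_mono j).2 ⟨inferInstance, inferInstance⟩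
  haveI := hasRpush j
  haveI := hasRpush (j ≫ CohB1.ProjSpaceOver.toBase r A)
  haveI := preservesFiniteColimits_iso j
  refine psc_Rpush_congr hj.symm (Dual22Lib.PscPushApps.psc_Rpush_projSpace r j _ (fun n => ?_) m)
  haveI := flat_affineSpace_toSpec Γ(S, (c.V : S.Opens)) c.n
  haveI := lfp_affineSpace_toSpec Γ(S, (c.V : S.Opens)) c.n
  have hw : (f ⁻¹ᵁ U).ι ≫ f ≫ q = j ≫ CohB1.ProjSpaceOver.toBase r A ≫ chartBase c := by
    rw [← Category.assoc j, hj]
    show (f ⁻¹ᵁ U).ι ≫ f ≫ q = ((f ∣_ U) ≫ c.imm) ≫ chartBase c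
    refine Eq.trans ?_ (((congrArg ((f ∣_ U) ≫ ·) (imm_chartBase c)).symm).trans (Category.assoc _ _ _).symm)
    show (f ⁻¹ᵁ U).ι ≫ f ≫ q = (f ∣_ U) ≫ U.ι ≫ q
    rw [← Category.assoc (f ∣_ U), morphismRestrict_ι]
    exact (Category.assoc _ _ _).symm
  haveI : LocallyOfFiniteType (f ≫ q) := (hE 0).1
  have h₀ := FlatCx12.RelPCRestrict.rel_restrict (f ⁻¹ᵁ U).ι (f ≫ q) n E (hE n)
  rw [hw] at h₀
  have h₁ := (rel_comp_iff j (CohB1.ProjSpaceOver.toBase r A ≫ chartBase c) n _).1 h₀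
  rw [← Category.comp_id j] at h₁
  obtain ⟨d⟩ := FlatCx12.RelPCThick.nonempty_Rpush_pd j ((PerfLocal.rd (f ⁻¹ᵁ U).ι).obj E)
  exact PCTriangle.psc_iso d.symm ((rel_iff_psc (𝟙 _) n _).1 ((rel_push_iff j (𝟙 _) n _).1 h₁))

end Groth.Agent.KSix16
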