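import Groth.Agent.KSix16.ExternalAmp
import Groth.Agent.KSix16.ProjRel
import Groth.Agent.EGA43.QcohFlat
import Groth.Agent.H8Lim.ModFPDescent
import Groth.Agent.FlatCx12.RelPCFlatModule
import Groth.Agent.FlatCx12.PscInduction
import Groth.Agent.Dual22Lib.RelAmpStalk
import Groth.Agent.Dual22Lib.RdComp
import Groth.Agent.DCat.TorSheaf
import Groth.Agent.CAlgH3.LocFreeFactor
import Groth.Agent.Props12.FinLocFree
import Groth.Agent.DQCoh.PscNoeth

/-!
# Perfect amplitude near a point from the amplitude at the point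
-/

set_option autoImplicit false
set_option backward.isDefEq.respectTransparency false
set_option backward.defeqAttrib.useBackward true
set_option linter.style.haveILetI false
set_option synthInstance.maxHeartbeats 100000
set_option backward.isDefEq.respectTransparency.types false

universe u

open CategoryTheory CategoryTheory.Limits CategoryTheory.Pretriangulated DerivedCategory AlgebraicGeometry
open Groth.Agent.DCat Groth.Agent.FlatCx12.RelPCChart Groth.Agent.FlatCx12.RelPCOps Groth.Agent.FlatCx12.RelPCTri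
open Groth.Agent.FlatCx12.EmbPush HomologicalComplex

attribute [local instance] HasDerivedCategory.standard
attribute [-instance] Int.instConditionallyCompleteLinearOrder

namespace Groth.Agent.KSix16.AmpNhd

/-- The lowest term of a complex of tor amplitude `[a, b]` whose other terms are flat is flat. -/
theorem flat_bottom {R : Type u} [CommRing R] (C : DRing.Cx R) {a b b' : ℤ}
    (h : DRing.HasTorAmplitudeIn R a b (DRing.toD C)) (hlt : ∀ i, i < a → IsZero (C.X i))
    (hgt : ∀ i, b' < i → IsZero (C.X i)) (hf : ∀ i, a < i → Module.Flat R (C.X i)) :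
    Module.Flat R (C.X a) := by
  obtain ⟨P, ι, hι, hPlt, hPge⟩ := DQCoh.exists_stupid C (a + 1)
  haveI := hι
  have hS : (ShortComplex.mk ι (cokernel.π ι) (cokernel.condition ι)).ShortExact :=
    { exact := ShortComplex.exact_cokernel ι, mono_f := hι, epi_g := inferInstanceAs (Epi (cokernel.π ι)) }
  have hn := fun n => hS.map_of_exact (HomologicalComplex.eval (ModuleCat.{u} R) (ComplexShape.up ℤ) n)
  have hQ : ∀ i, i ≠ a → IsZero ((cokernel ι).X i) := fun i hi => by
    rcases lt_or_gt_of_ne hi with h' | h'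
    · haveI : IsIso ((cokernel.π ι).f i) := (hn i).isIso_g_iff.2 (hPlt i (by omega))
      exact (hlt i h').of_iso (asIso ((cokernel.π ι).f i)).symm
    · haveI := hPge i (by omega)
      exact (hn i).isIso_f_iff.1 (show IsIso (ι.f i) from inferInstance)
  have hPf : ∀ i, Module.Flat R (P.X i) := fun i => by
    by_cases hi : a + 1 ≤ i
    · haveI := hPge i hi
      exact (Module.Flat.equiv_iff (asIso (ι.f i)).toLinearEquiv).2 (hf i (by omega))
    · haveI := ModuleCat.subsingleton_of_isZero (hPlt i (by omega))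
      infer_instance
  have hP : DRing.HasTorAmplitudeIn R (a + 1) (max a b') (DRing.toD P) :=
    ⟨P, fun i hi => by
      rcases hi with hi | hi
      · exact hPlt i hi
      · haveI := hPge i (by omega)
        exact (hgt i (by omega)).of_iso (asIso (ι.f i)), hPf, ⟨Iso.refl _⟩⟩
  have hM : DRing.HasTorAmplitudeIn R a a (DRing.toD (cokernel ι)) := by
    refine FlatCx12.TorAmpComp.amp_iff_vanish.2 fun N i hi => ?_
    haveI := DCat.hasLTensor N
    rcases hi with hi | hi
    · obtain ⟨h₃, -, -⟩ := DCat.ltensor_vanish (DerivedCategory.triangleOfSES_distinguished hS) N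
      exact h₃ i (FlatCx12.TorAmpComp.amp_iff_vanish.1 h N i (Or.inl hi))
        (FlatCx12.TorAmpComp.amp_iff_vanish.1 hP N (i + 1) (Or.inl (by omega)))
    · obtain ⟨T, hT, -, hTb, ⟨e⟩⟩ := DCat.exists_flat_rep (b := a) (K := DRing.toD (cokernel ι))
        fun n hn => (DCat.isZero_homology_toD_iff _ n).2 (HomologicalComplex.ExactAt.of_isZero (hQ n (by omega)))
      refine (DCat.isZero_ltensor_iff N hT e i).2 ?_
      exact HomologicalComplex.ExactAt.of_isZero ((MonoidalCategory.tensorRight N).map_isZero (hTb i hi))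
  haveI : CochainComplex.IsStrictlyGE (cokernel ι) a :=
    (CochainComplex.isStrictlyGE_iff _ _).2 fun n hn => hQ n (by omega)
  haveI : CochainComplex.IsStrictlyLE (cokernel ι) a :=
    (CochainComplex.isStrictlyLE_iff _ _).2 fun n hn => hQ n (by omega)
  obtain ⟨M, ⟨j⟩⟩ := CochainComplex.exists_iso_single (cokernel ι) a
  haveI : IsIso ((cokernel.π ι).f a) := (hn a).isIso_g_iff.2 (hPlt a (by omega))
  let eM : C.X a ≅ M := asIso ((cokernel.π ι).f a) ≪≫ HomologicalComplex.Hom.isoApp j a ≪≫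
    HomologicalComplex.singleObjXSelf (ComplexShape.up ℤ) a M
  let k : (DRing.toD (cokernel ι))⟦a⟧ ≅ Dual.inD R M :=
    (shiftFunctor _ a).mapIso (DerivedCategory.Q.mapIso j) ≪≫
      (shiftFunctor _ a).mapIso ((DerivedCategory.singleFunctorIsoCompQ (ModuleCat.{u} R) a).app M).symm ≪≫
      (((DerivedCategory.singleFunctors (ModuleCat.{u} R)).shiftIso a 0 a (by omega)).app M)
  haveI := FlatCx12.TorAmpComp.flat_of_amp M
    (FlatCx12.TorAmpComp.amp_iso k (FlatCx12.TorAmpComp.amp_shift hM a 0 0 (by omega) (by omega)))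
  exact Module.Flat.of_linearEquiv eM.toLinearEquiv

variable {A S : Scheme.{u}}

/-- Truncation of an approximation. -/
theorem exists_trunc (R : CochainComplex A.Modules ℤ) {a : ℤ} (hR : ∀ i, i < a → R.ExactAt i)
    (E : CochainComplex A.Modules ℤ) (β : DerivedCategory.Q.obj E ⟶ DerivedCategory.Q.obj R)
    (hE : DCoh.IsStrictlyPerfect E) (hβ : PullPerf.Apx (a - 1) β) :
    ∃ (G : CochainComplex A.Modules ℤ) (b' : ℤ), Nonempty (DCoh.toD A G ≅ DCoh.toD A R) ∧ a ≤ b' ∧
      (∀ i, i < a → IsZero (G.X i)) ∧ (∀ i, b' < i → IsZero (G.X i)) ∧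
      (∀ i, a < i → FlatMod.IsFinLocFree (G.X i)) ∧ Coh.IsQCoh (G.X a) ∧ CohB1.IsFP (G.X a) := by
  obtain ⟨⟨a₀, b₀, hab⟩, hf⟩ := hE
  obtain ⟨L, g, s, hs, hfac⟩ := DerivedCategory.left_fac β
  haveI := hs
  haveI hRge : R.IsGE a := (CochainComplex.isGE_iff _ _).2 hR
  haveI : QuasiIso s := (DerivedCategory.isIso_Q_map_iff_quasiIso _ s).1 hs
  haveI : L.IsGE a := by
    rw [CochainComplex.isGE_iff]
    exact fun i hi => (exactAt_iff_of_quasiIsoAt s i).1 (hR i hi)
  have hg : ∀ i, a ≤ i → QuasiIsoAt g i := fun i hi => by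
    rw [quasiIsoAt_iff_isIso_homologyMap]
    haveI := hβ.1 i (by omega)
    have h1 : IsIso ((DerivedCategory.homologyFunctor A.Modules i).map (DerivedCategory.Q.map g)) := by
      have : (DerivedCategory.homologyFunctor A.Modules i).map (DerivedCategory.Q.map g) =
          (DerivedCategory.homologyFunctor A.Modules i).map β ≫
            (DerivedCategory.homologyFunctor A.Modules i).map (DerivedCategory.Q.map s) := by
        rw [← Functor.map_comp, hfac, Category.assoc, IsIso.inv_hom_id, Category.comp_id]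
      rw [this]
      infer_instance
    exact (NatIso.isIso_map_iff (DerivedCategory.homologyFunctorFactors A.Modules i) g).1 h1
  haveI := (CochainComplex.quasiIso_truncGEMap_iff g a).2 hg
  let e : DCoh.toD A (E.truncGE a) ≅ DCoh.toD A R :=
    @asIso _ _ _ _ (DerivedCategory.Q.map (CochainComplex.truncGEMap g a))
        ((DerivedCategory.isIso_Q_map_iff_quasiIso _ _).2 inferInstance) ≪≫
      (@asIso _ _ _ _ (DerivedCategory.Q.map (L.πTruncGE a))
        ((DerivedCategory.isIso_Q_map_iff_quasiIso _ _).2 inferInstance)).symm ≪≫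
      (asIso (DerivedCategory.Q.map s)).symm
  have hq : ∀ i, Coh.IsQCoh (E.X i) := fun i => CAlgH3.LocFreeFactor.isQCoh_of_finLocFree (hf i)
  haveI := hq a
  haveI := hq (a - 1)
  let o : cokernel (E.d (a - 1) a) ≅ (E.truncGE a).X a :=
    IsColimit.coconePointUniqueUpToIso (colimit.isColimit _) (E.opcyclesIsCokernel (a - 1) a (by simp)) ≪≫
      (E.truncGEXIsoOpcycles a).symm
  have hFP : CohB1.IsFP (cokernel (E.d (a - 1) a)) := by
    refine H8Lim.isFP_cokernel _ ?_ (Props12.isFP_of_isFinLocFree _ (hf a))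
    haveI : SheafOfModules.IsFinitePresentation.{u} (R := A.ringCatSheaf) (E.X (a - 1)) :=
      Props12.isFP_of_isFinLocFree _ (hf (a - 1))
    exact (inferInstance : SheafOfModules.IsFiniteType.{u} (R := A.ringCatSheaf) (E.X (a - 1)))
  refine ⟨E.truncGE a, max a b₀, ⟨e⟩, le_max_left _ _, fun i hi => CochainComplex.isZero_of_isStrictlyGE _ a i hi,
    fun i hi => (hab i (Or.inr (by omega))).of_iso (E.truncGEXIso a i (by omega)),
    fun i hi => PerfTensor.isFinLocFree_of_iso (E.truncGEXIso a i hi).symm (hf i), ?_, ?_⟩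
  · exact Coherent.isQCoh_of_iso o (h := Coherent.isQCoh_cokernel _)
  · exact (SheafOfModules.isFinitePresentation A.ringCatSheaf).prop_of_iso o hFP

/-- Flatness of the bottom term at a point of the right amplitude. -/
theorem flatAt_bottom (q : A ⟶ S) [Flat q] (G : CochainComplex A.Modules ℤ) {a b b' : ℤ}
    (hlt : ∀ i, i < a → IsZero (G.X i)) (hgt : ∀ i, b' < i → IsZero (G.X i))
    (hf : ∀ i, a < i → FlatMod.IsFlat (G.X i)) (w : A) (h : DerSch.HasTorAmplitudeAt q a b G w) :
    FlatMod.IsFlatOverAt q (G.X a) w := by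
  exact flat_bottom ((DerSch.stalkCxOver q w).obj G) h (fun i hi => (DerSch.stalkOver q w).map_isZero (hlt i hi))
    (fun i hi => (DerSch.stalkOver q w).map_isZero (hgt i hi)) fun i hi => by
      haveI : Module.Flat (A.presheaf.stalk w) ((DerSch.stalkFunctor A w).obj (G.X i)) := hf i hi w
      exact FlatCx12.PushStalk.flat_restrict _ (Flat.stalkMap q w) ((DerSch.stalkFunctor A w).obj (G.X i))

/-- The amplitude where the bottom term is flat. -/
theorem amp_at (q : A ⟶ S) [Flat q] (R G : CochainComplex A.Modules ℤ) (e : DCoh.toD A G ≅ DCoh.toD A R) {a b b' : ℤ}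
    (hR : ∀ i, b < i → R.ExactAt i)
    (hlt : ∀ i, i < a → IsZero (G.X i)) (hgt : ∀ i, b' < i → IsZero (G.X i))
    (hf : ∀ i, a < i → FlatMod.IsFlat (G.X i)) (w : A) (hw : FlatMod.IsFlatOverAt q (G.X a) w) :
    DerSch.HasTorAmplitudeAt q a b R w := by
  refine Dual22Lib.RelAmpStalk.amp_le _ (c := b') (FlatCx12.AmpThick.amp_congr q w e
    ⟨(DerSch.stalkCxOver q w).obj G, fun i hi => (DerSch.stalkOver q w).map_isZero (hi.elim (hlt i) (hgt i)),
      fun i => ?_, ⟨Iso.refl _⟩⟩) fun i hi => ?_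
  · rcases lt_trichotomy i a with hi | rfl | hi
    · haveI := ModuleCat.subsingleton_of_isZero ((DerSch.stalkOver q w).map_isZero (hlt i hi))
      show Module.Flat (S.presheaf.stalk (q w)) ((DerSch.stalkOver q w).obj (G.X i))
      infer_instance
    · exact hw
    · haveI : Module.Flat (A.presheaf.stalk w) ((DerSch.stalkFunctor A w).obj (G.X i)) := hf i hi w
      exact FlatCx12.PushStalk.flat_restrict _ (Flat.stalkMap q w) ((DerSch.stalkFunctor A w).obj (G.X i))
  · haveI : (DerSch.stalkOver q w).PreservesHomology := inferInstance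
    have h1 := hR i hi
    rw [HomologicalComplex.exactAt_iff] at h1 ⊢
    exact h1.map (DerSch.stalkOver q w)

/-- Near a point of amplitude `[a, b]` an `(a-1)`-pseudo-coherent complex acyclic outside `[a, b]` is perfect. -/
theorem exists_nhd_flat_base (q : A ⟶ S) [Flat q] [LocallyOfFinitePresentation q] (R : CochainComplex A.Modules ℤ)
    {a b : ℤ} (hR : ∀ i, i < a ∨ b < i → R.ExactAt i) (h : DCoh.IsPseudoCoherentD (a - 1) (DCoh.toD A R)) (z : A)
    (hz : DerSch.HasTorAmplitudeAt q a b R z) :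
    ∃ Ω : A.Opens, z ∈ Ω ∧ (∀ w ∈ Ω, DerSch.HasTorAmplitudeAt q a b R w) ∧
      ∀ m, DCoh.IsPseudoCoherentD m ((PerfLocal.rd Ω.ι).obj (DCoh.toD A R)) := by
  obtain ⟨W, k, _, ⟨w₀, hw₀⟩, E, α, hE, hα⟩ := (PerfLocal.isPseudoCoherentD_iff (a - 1) _).1 h z
  let q₁ := k ≫ q
  let F := (Scheme.Modules.restrictFunctor k).mapHomologicalComplex (ComplexShape.up ℤ)
  let φ := (Scheme.Modules.restrictFunctor k).mapDerivedCategoryFactors.app R
  have hR₁ : ∀ i, i < a ∨ b < i → (F.obj R).ExactAt i := fun i hi => by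
    haveI := PullPerf.preservesFiniteLimits_restrict k
    have h1 := hR i hi
    rw [HomologicalComplex.exactAt_iff] at h1 ⊢
    exact h1.map (Scheme.Modules.restrictFunctor k)
  obtain ⟨G, b', ⟨e⟩, hab', hlt, hgt, hlf, hq, hfp⟩ := exists_trunc (F.obj R) (fun i hi => hR₁ i (Or.inl hi)) E
    (α ≫ φ.hom) hE ⟨fun i hi => by haveI := hα.1 i hi; rw [Functor.map_comp]; infer_instance,
      by haveI := hα.2; rw [Functor.map_comp]; infer_instance⟩
  haveI := hq
  have hfl : ∀ i, a < i → FlatMod.IsFlat (G.X i) := fun i hi =>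
    haveI := CAlgH3.LocFreeFactor.isQCoh_of_finLocFree (hlf i hi)
    Props12.isFlat_of_isFinLocFree _ (hlf i hi)
  have hw : FlatMod.IsFlatOverAt q₁ (G.X a) w₀ :=
    flatAt_bottom q₁ G hlt hgt hfl w₀ (FlatCx12.AmpThick.amp_congr q₁ w₀ e.symm
      ((Dual22Lib.RelAmpStalk.amp_restrict_iff q k R a b w₀).2 (by rw [hw₀]; exact hz)))
  let W' : W.Opens := ⟨_, EGA43.QcohFlat.isOpen_setOf_isFlatOverAt q₁ (G.X a) hfp⟩
  have hamp : ∀ w ∈ W', DerSch.HasTorAmplitudeAt q₁ a b (F.obj R) w := fun w hw' =>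
    amp_at q₁ (F.obj R) G e (fun i hi => hR₁ i (Or.inr hi)) hlt hgt hfl w hw'
  let Ω : A.Opens := k ''ᵁ W'
  refine ⟨Ω, hw₀ ▸ ⟨w₀, hw, rfl⟩, ?_, fun m => ?_⟩
  · rintro _ ⟨w, hw', rfl⟩
    exact (Dual22Lib.RelAmpStalk.amp_restrict_iff q k R a b w).1 (hamp w hw')
  have hrange : Set.range Ω.ι ⊆ Set.range k := by
    rintro _ ⟨⟨_, w, -, rfl⟩, rfl⟩
    exact ⟨w, rfl⟩
  let l : Ω.toScheme ⟶ W := IsOpenImmersion.lift k Ω.ι hrange
  have hl : l ≫ k = Ω.ι := IsOpenImmersion.lift_fac k Ω.ι hrange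
  haveI : IsOpenImmersion l := @IsOpenImmersion.of_comp _ _ _ l k _ (hl ▸ inferInstance)
  have hlW : ∀ x : Ω.toScheme, l x ∈ W' := fun x => by
    obtain ⟨w, hw', hwx⟩ := x.2
    have : k (l x) = k w := by
      rw [← Scheme.Hom.comp_apply, hl]
      exact hwx.symm
    rwa [k.isOpenEmbedding.injective this]
  let q₂ := l ≫ q₁
  let Fl := (Scheme.Modules.restrictFunctor l).mapHomologicalComplex (ComplexShape.up ℤ)
  let G₂ := Fl.obj G
  have hlf₂ : ∀ i, a < i → FlatMod.IsFinLocFree (G₂.X i) := fun i hi =>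
    PerfTensor.isFinLocFree_of_iso ((Scheme.Modules.restrictFunctorIsoPullback l).app (G.X i)).symm
      (PullPerf.isFinLocFree_pullback l (hlf i hi))
  have hfl₂ : ∀ i, a < i → FlatMod.IsFlat (G₂.X i) := fun i hi =>
    haveI := CAlgH3.LocFreeFactor.isQCoh_of_finLocFree (hlf₂ i hi)
    Props12.isFlat_of_isFinLocFree _ (hlf₂ i hi)
  have hflat : FlatMod.IsFlatOver q₂ (G₂.X a) := fun x =>
    flatAt_bottom q₂ G₂ (fun i hi => (Scheme.Modules.restrictFunctor l).map_isZero (hlt i hi))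
      (fun i hi => (Scheme.Modules.restrictFunctor l).map_isZero (hgt i hi)) hfl₂ x
      ((Dual22Lib.RelAmpStalk.amp_restrict_iff q₁ l G a b x).2
        (FlatCx12.AmpThick.amp_congr q₁ (l x) e.symm (hamp _ (hlW x))))
  have hterm : ∀ i, DCoh.IsPseudoCoherentD (m - i) (DCoh.inD Ω.toScheme (G₂.X i)) := fun i => by
    rcases lt_trichotomy i a with hi | rfl | hi
    · exact psc_of_isLE' (n := m - i - 1) (by omega) (DerivedCategory.TStructure.t.isLE_of_isZero
        ((singleFunctor _ 0).map_isZero ((Scheme.Modules.restrictFunctor l).map_isZero (hlt i hi))) _)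
    · refine (rel_iff_psc q₂ _ _).1 (FlatCx12.RelPCFlatModule.rel_all_of_flat q₂ _ hflat ((rel_iff_psc q₂ _ _).2 ?_) _)
      exact PCTriangle.psc_iso (((Scheme.Modules.restrictFunctor l).mapDerivedCategorySingleFunctor 0).app (G.X i))
        (DQCoh.psc_rd l (DQCoh.psc_neg_one_of_isFP _ hfp))
    · exact DQCoh.psc_inD_finLocFree _ (hlf₂ i hi)
  obtain ⟨c⟩ := Dual22Lib.RdComp.rd_congr (l ≫ k) hl (DCoh.toD A R)
  refine PCTriangle.psc_iso ?_ (FlatCx12.PscInduction.psc_of_terms m (b' - m + 1).toNat G₂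
    (fun i hi => (Scheme.Modules.restrictFunctor l).map_isZero (hgt i (by omega))) hterm)
  exact ((Scheme.Modules.restrictFunctor l).mapDerivedCategoryFactors.app G).symm ≪≫
    (PerfLocal.rd l).mapIso (e ≪≫ φ.symm) ≪≫ (Dual22Lib.RdComp.rdCompIso l k).app _ ≪≫ c

variable {X Y : Scheme.{u}}

/-- Relative perfect amplitude on a neighbourhood from the amplitude at the point. -/
theorem exists_nhd_perfAmpRel (f : X ⟶ Y) [LocallyOfFiniteType f] (F : CochainComplex X.Modules ℤ) {a b : ℤ}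
    (h : DerSch.IsPseudoCoherentRel f (a - 1) (DCoh.toD X F))
    (hH : ∀ i : ℤ, i < a ∨ b < i → IsZero (DCoh.HD (DCoh.toD X F) i)) (x : X)
    (hx : DerSch.HasTorAmplitudeAt f a b F x) :
    ∃ (W : Scheme.{u}) (j : W ⟶ X) (_ : IsOpenImmersion j), x ∈ j.opensRange ∧
      (∀ m, DerSch.IsPseudoCoherentRel (j ≫ f) m ((PerfLocal.rd j).obj (DCoh.toD X F))) ∧
      ∀ w : W, DerSch.HasTorAmplitudeAt f a b F (j w) := by
  obtain ⟨U, V, hle, hxU⟩ := exists_affine_pair f x
  algebraize [(f.appLE V U hle).hom]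
  obtain ⟨n, π, hπ⟩ := Algebra.FiniteType.iff_quotient_mvPolynomial''.1
    (show Algebra.FiniteType Γ(Y, V.1) Γ(X, U.1) from f.finiteType_appLE V.2 U.2 hle)
  let c : Chart f := ⟨U, V, hle, n, π.toRingHom, hπ, RingHom.ext fun r => π.commutes r⟩
  haveI : IsClosedImmersion c.imm := isClosedImmersion_along c.U.2 c.isChart.1
  let g : Spec (CommRingCat.of (MvPolynomial (Fin c.n) Γ(Y, (c.V : Y.Opens)))) ⟶ Spec Γ(Y, (c.V : Y.Opens)) :=
    Spec.map (CommRingCat.ofHom (MvPolynomial.C : Γ(Y, (c.V : Y.Opens)) →+* _))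
  haveI : Flat g := by
    rw [HasRingHomProperty.Spec_iff (P := @Flat)]
    show RingHom.Flat (algebraMap Γ(Y, (c.V : Y.Opens)) (MvPolynomial (Fin c.n) Γ(Y, (c.V : Y.Opens))))
    rw [RingHom.flat_algebraMap_iff]
    infer_instance
  haveI : LocallyOfFinitePresentation g := by
    rw [HasRingHomProperty.Spec_iff (P := @LocallyOfFinitePresentation)]
    show RingHom.FinitePresentation (algebraMap Γ(Y, (c.V : Y.Opens)) (MvPolynomial (Fin c.n) Γ(Y, (c.V : Y.Opens))))
    rw [RingHom.finitePresentation_algebraMap]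
    infer_instance
  let p : c.space ⟶ Y := chartBase c
  haveI : Flat p := inferInstanceAs (Flat (g ≫ _))
  haveI : LocallyOfFinitePresentation p := inferInstanceAs (LocallyOfFinitePresentation (g ≫ _))
  have himm : c.imm ≫ p = (c.U : X.Opens).ι ≫ f := imm_chartBase c
  let FU := ((Scheme.Modules.restrictFunctor (c.U : X.Opens).ι).mapHomologicalComplex (ComplexShape.up ℤ)).obj F
  let R := ((Scheme.Modules.pushforward c.imm).mapHomologicalComplex (ComplexShape.up ℤ)).obj FU
  let φ : c.fn.obj (DCoh.toD X F) ≅ DCoh.toD c.space R := fnQIso c F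
  have hR : ∀ i, i < a ∨ b < i → R.ExactAt i := fun i hi => by
    rw [← DCat.isZero_HD_toD_iff]
    exact (((mfun c).map_isZero (hH i hi)).of_iso (fnHomIso c _ i)).of_iso
      ((DerivedCategory.homologyFunctor _ i).mapIso φ.symm)
  let u : (c.U : X.Opens).toScheme := ⟨x, hxU⟩
  have hz : DerSch.HasTorAmplitudeAt p a b R (c.imm u) :=
    (FlatCx12.PushStalk.amp_push_iff c.imm p FU a b u).2 (Dual22Lib.RelAmpStalk.amp_congr_hom himm.symm
      ((Dual22Lib.RelAmpStalk.amp_restrict_iff f (c.U : X.Opens).ι F a b u).2 hx))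
  obtain ⟨Ω, hzΩ, hamp, hpsc⟩ :=
    exists_nhd_flat_base p R hR (PCTriangle.psc_iso φ ((rel_iff_chart _ _).1 h c)) (c.imm u) hz
  refine ⟨(c.imm ⁻¹ᵁ Ω).toScheme, (c.imm ⁻¹ᵁ Ω).ι ≫ (c.U : X.Opens).ι, inferInstance, ⟨⟨u, hzΩ⟩, rfl⟩,
    fun m => ?_, fun w => ?_⟩
  · let i' := c.imm ∣_ Ω
    haveI := preservesFiniteColimits_iso i'
    obtain ⟨s⟩ := nonempty_rd_pd c.imm Ω ((PerfLocal.rd (c.U : X.Opens).ι).obj (DCoh.toD X F))
    haveI : LocallyOfFiniteType (Ω.ι ≫ p) := inferInstance
    have h1 := (rel_iff_psc (Ω.ι ≫ p) m _).2 (PCTriangle.psc_iso ((PerfLocal.rd Ω.ι).mapIso φ.symm ≪≫ s) (hpsc m))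
    have h2 := (rel_push_iff i' (Ω.ι ≫ p) m _).2 h1
    have e : i' ≫ Ω.ι ≫ p = ((c.imm ⁻¹ᵁ Ω).ι ≫ (c.U : X.Opens).ι) ≫ f := by
      rw [← Category.assoc, morphismRestrict_ι, Category.assoc, himm, Category.assoc]
    rw [e] at h2
    exact FlatCx12.RelPCFlatBC.rel_iso ((Dual22Lib.RdComp.rdCompIso _ _).app _) h2
  · exact (Dual22Lib.RelAmpStalk.amp_restrict_iff f (c.U : X.Opens).ι F a b _).1
      (Dual22Lib.RelAmpStalk.amp_congr_hom himm
        ((FlatCx12.PushStalk.amp_push_iff c.imm p FU a b _).1 (hamp _ w.2)))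

end Groth.Agent.KSix16.AmpNhd
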