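import Groth.Agent.KSix16.ExternalAmp
import Groth.Agent.FlatCx12.AmpFlatBCScheme
import Groth.Agent.S6240

/-!
# External derived tensor products, second factor flat over the base
-/

set_option autoImplicit false
set_option backward.isDefEq.respectTransparency false
set_option backward.defeqAttrib.useBackward true
set_option linter.style.haveILetI false
set_option synthInstance.maxHeartbeats 100000

universe u

open CategoryTheory CategoryTheory.Limits DerivedCategory AlgebraicGeometry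
open Groth.Agent.DCat Groth.Agent.ModStalk

attribute [local instance] HasDerivedCategory.standard
attribute [-instance] Int.instConditionallyCompleteLinearOrder

namespace Groth.Agent.KSix16.External

/-- The factorisation `X → Y ×_{Y₁} X₁ → Y` of a product of two morphisms. -/
theorem exists_factor {S X₁ Y₁ X₂ Y₂ X Y : Scheme.{u}} (f₁ : X₁ ⟶ Y₁) (q₁ : Y₁ ⟶ S) (f₂ : X₂ ⟶ Y₂) (q₂ : Y₂ ⟶ S)
    (pX₁ : X ⟶ X₁) (pX₂ : X ⟶ X₂) (hX : IsPullback pX₁ pX₂ (f₁ ≫ q₁) (f₂ ≫ q₂))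
    (pY₁ : Y ⟶ Y₁) (pY₂ : Y ⟶ Y₂) (hY : IsPullback pY₁ pY₂ q₁ q₂)
    (f : X ⟶ Y) (hf₁ : f ≫ pY₁ = pX₁ ≫ f₁) (hf₂ : f ≫ pY₂ = pX₂ ≫ f₂) :
    ∃ (W : Scheme.{u}) (u' : X ⟶ W) (v : W ⟶ Y) (w : W ⟶ X₁), u' ≫ v = f ∧ u' ≫ w = pX₁ ∧
      IsPullback w v f₁ pY₁ ∧ IsPullback (v ≫ pY₂) w q₂ (f₁ ≫ q₁) ∧ IsPullback pX₂ u' f₂ (v ≫ pY₂) := by
  let v := pullback.fst pY₁ f₁
  let w := pullback.snd pY₁ f₁
  have hW : IsPullback v w pY₁ f₁ := IsPullback.of_hasPullback _ _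
  let u' : X ⟶ pullback pY₁ f₁ := pullback.lift f pX₁ hf₁
  have hT : IsPullback (v ≫ pY₂) w q₂ (f₁ ≫ q₁) := hW.paste_horiz hY.flip
  refine ⟨_, u', v, w, pullback.lift_fst _ _ _, pullback.lift_snd _ _ _, hW.flip, hT, IsPullback.of_bot ?_ ?_ hT⟩
  · rw [show u' ≫ w = pX₁ from pullback.lift_snd _ _ _]
    exact hX.flip
  · rw [← hf₂, show f = u' ≫ v from (pullback.lift_fst _ _ _).symm, Category.assoc]

/-- The pullback of the first factor through the factorisation. -/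
theorem nonempty_factor {A B C : Scheme.{u}} {u' : A ⟶ B} {w : B ⟶ C} {p : A ⟶ C} (h : u' ≫ w = p)
    [DCoh.HasLpull u'] [DCoh.HasLpull w] [DCoh.HasLpull p] (K : DCoh.D C) :
    Nonempty ((DCoh.Lpull u').obj ((DCoh.Lpull w).obj K) ≅ (DCoh.Lpull p).obj K) := by
  subst h
  obtain ⟨e⟩ := nonempty_LpullComp u' w
  exact ⟨e.app K⟩

/-- Swapping the factors of a derived tensor product given by representatives. -/
theorem nonempty_swap_rep {X : Scheme.{u}} (A B : CochainComplex X.Modules ℤ) [DCoh.HasLTensorCx A] [DCoh.HasLTensorCx B]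
    {a b : DCoh.D X} (eA : DerivedCategory.Q.obj A ≅ a) (eB : DerivedCategory.Q.obj B ≅ b) :
    Nonempty ((DCoh.LTensorCx A).obj b ≅ (DCoh.LTensorCx B).obj a) := by
  obtain ⟨N, c, hN, -, hc, -⟩ := exists_kflat_sheaf A
  haveI := hc
  haveI := LTensorSheaf.hasLTensorCx N
  obtain ⟨t⟩ := TensorCongr.nonempty_of_quasiIso c
  obtain ⟨s⟩ := RelTensor.nonempty_swap hN B
  exact ⟨(DCoh.LTensorCx A).mapIso eB.symm ≪≫ (t.app _).symm ≪≫ s.symm ≪≫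
    (DCoh.LTensorCx B).mapIso (asIso (DerivedCategory.Q.map c) ≪≫ eA)⟩

variable {S X₁ Y₁ X₂ Y₂ X Y : Scheme.{u}} (f₁ : X₁ ⟶ Y₁) (q₁ : Y₁ ⟶ S) (f₂ : X₂ ⟶ Y₂) (q₂ : Y₂ ⟶ S)
  [Flat q₂] [Flat (f₂ ≫ q₂)] (pX₁ : X ⟶ X₁) (pX₂ : X ⟶ X₂) (hX : IsPullback pX₁ pX₂ (f₁ ≫ q₁) (f₂ ≫ q₂))
  (pY₁ : Y ⟶ Y₁) (pY₂ : Y ⟶ Y₂) (hY : IsPullback pY₁ pY₂ q₁ q₂)
  (f : X ⟶ Y) (hf₁ : f ≫ pY₁ = pX₁ ≫ f₁) (hf₂ : f ≫ pY₂ = pX₂ ≫ f₂)
  [DCoh.HasLpull pX₁] [DCoh.HasLpull pX₂] (K₂ : CochainComplex X.Modules ℤ) [DCoh.HasLTensorCx K₂]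
  (E₂ : CochainComplex X₂.Modules ℤ) (eK : DerivedCategory.Q.obj K₂ ≅ (DCoh.Lpull pX₂).obj (DerivedCategory.Q.obj E₂))

include hX hY hf₁ hf₂ eK in
/-- Relative pseudo-coherence, with the bound. -/
theorem rel_external [LocallyOfFiniteType f₁] [LocallyOfFiniteType f₂] (E₁ : DCoh.D X₁) {a₁ b₁ a₂ b₂ m : ℤ}
    (h₁ : DerSch.IsPseudoCoherentRel f₁ a₁ E₁) (hb₁ : E₁.IsLE b₁)
    (h₂ : DerSch.IsPseudoCoherentRel f₂ a₂ (DerivedCategory.Q.obj E₂)) (hb₂ : (DerivedCategory.Q.obj E₂).IsLE b₂)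
    (hm₁ : a₁ + b₂ ≤ m) (hm₂ : a₂ + b₁ ≤ m) :
    DerSch.IsPseudoCoherentRel f m ((DCoh.LTensorCx K₂).obj ((DCoh.Lpull pX₁).obj E₁)) := by
  obtain ⟨W, u', v, w, huv, huw, hW, hT, hc⟩ := exists_factor f₁ q₁ f₂ q₂ pX₁ pX₂ hX pY₁ pY₂ hY f hf₁ hf₂
  haveI : Flat pY₁ := MorphismProperty.of_isPullback (P := @Flat) hY.flip inferInstance
  haveI : LocallyOfFiniteType v := MorphismProperty.of_isPullback (P := @LocallyOfFiniteType) hW inferInstance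
  haveI : LocallyOfFiniteType u' := MorphismProperty.of_isPullback (P := @LocallyOfFiniteType) hc inferInstance
  haveI := hasLpull w
  haveI := hasLpull u'
  have hF := ExternalRel.rel_baseChange_flat hW E₁ h₁
  have hE := FlatCx12.RelPCFlatBC.rel_iso eK.symm (ExternalRel.rel_baseChange_indep hT hc _ b₂ hb₂ h₂)
  obtain ⟨e⟩ := nonempty_factor huw E₁
  have h := RelTensor.rel_comp u' v b₂ a₁ m K₂
    (@CategoryTheory.Triangulated.TStructure.isLE_of_iso _ _ _ _ _ _ _ DerivedCategory.TStructure.t _ _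
      eK.symm b₂ (PullPerf.isLE_Lpull pX₂ _ b₂ hb₂)) ((DCoh.Lpull w).obj E₁) hF
    (fun V _ => ⟨a₂, b₁, hE, FlatCx12.EmbPush.isLE_map _ _ b₁ (PullPerf.isLE_Lpull w E₁ b₁ hb₁), hm₂⟩) (by omega)
  rw [huv] at h
  haveI : LocallyOfFiniteType f := by rw [← huv]; infer_instance
  exact FlatCx12.RelPCFlatBC.rel_iso ((DCoh.LTensorCx K₂).mapIso e) h

include hX hY hf₁ hf₂ eK in
/-- Tor amplitude. -/
theorem amp_external (E₁ : CochainComplex X₁.Modules ℤ) {a₁ b₁ a₂ b₂ : ℤ} (h₁ : DerSch.HasTorAmplitude f₁ a₁ b₁ E₁)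
    (h₂ : DerSch.HasTorAmplitude f₂ a₂ b₂ E₂) :
    DerSch.HasTorAmplitudeD f (a₁ + a₂) (b₁ + b₂)
      ((DCoh.LTensorCx K₂).obj ((DCoh.Lpull pX₁).obj (DerivedCategory.Q.obj E₁))) := by
  obtain ⟨W, u', v, w, huv, huw, hW, hT, hc⟩ := exists_factor f₁ q₁ f₂ q₂ pX₁ pX₂ hX pY₁ pY₂ hY f hf₁ hf₂
  haveI : Flat pY₁ := MorphismProperty.of_isPullback (P := @Flat) hY.flip inferInstance
  haveI := hasLpull w
  haveI := hasLpull u'
  let G := DerivedCategory.Q.objPreimage ((DCoh.Lpull w).obj (DerivedCategory.Q.obj E₁))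
  let eG : DerivedCategory.Q.obj G ≅ (DCoh.Lpull w).obj (DerivedCategory.Q.obj E₁) :=
    DerivedCategory.Q.objObjPreimageIso _
  have hG : DerSch.HasTorAmplitude v a₁ b₁ G :=
    FlatCx12.AmpFlatBCScheme.amp_Lpull_flat f₁ v w pY₁ hW E₁ h₁ G ⟨eG⟩
  have hK : DerSch.HasTorAmplitude u' a₂ b₂ K₂ := ExternalAmp.amp_baseChange_indep hT hc E₂ h₂ K₂ ⟨eK⟩
  obtain ⟨e⟩ := nonempty_factor huw (DerivedCategory.Q.obj E₁)
  intro K hK'
  obtain ⟨eK'⟩ := hK'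
  have h := Groth.Agent.S6240.result u' v f huv K₂ a₂ b₂ hK G a₁ b₁ hG K
    ⟨eK' ≪≫ (DCoh.LTensorCx K₂).mapIso (e.symm ≪≫ (DCoh.Lpull u').mapIso eG.symm)⟩
  rwa [add_comm a₁, add_comm b₁]

end Groth.Agent.KSix16.External
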