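import Groth.Agent.KSix16.ExternalRel
import Groth.Agent.FlatCx12.AmpThick
import Groth.Agent.FlatCx12.AmpFibre
import Groth.Agent.Dual22Lib.RelAmpPush
import Groth.Agent.DCat.LTensorModule

/-!
# Tor amplitude under a change of base, tor-independent over a base
-/

set_option autoImplicit false
set_option backward.isDefEq.respectTransparency false
set_option backward.defeqAttrib.useBackward true
set_option linter.style.haveILetI false
set_option synthInstance.maxHeartbeats 100000

universe u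

open CategoryTheory CategoryTheory.Limits CategoryTheory.Pretriangulated DerivedCategory AlgebraicGeometry
open Groth.Agent.DCat Groth.Agent.FlatCx12.RelPCChart Groth.Agent.FlatCx12.EmbPush Groth.Agent.ModStalk
open HomologicalComplex

attribute [local instance] HasDerivedCategory.standard
attribute [-instance] Int.instConditionallyCompleteLinearOrder

namespace Groth.Agent.KSix16.ExternalAmp

theorem flat_mvPoly_toSpec (R : CommRingCat.{u}) (σ : Type u) :
    Flat (Spec.map (CommRingCat.ofHom (MvPolynomial.C : R →+* MvPolynomial σ R))) := by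
  rw [HasRingHomProperty.Spec_iff (P := @Flat)]
  show RingHom.Flat (algebraMap R (MvPolynomial σ R))
  rw [RingHom.flat_algebraMap_iff]
  infer_instance

theorem flat_prod_cat {R : CommRingCat.{u}} (A B : ModuleCat.{u} R) (hA : Module.Flat R A) (hB : Module.Flat R B) :
    Module.Flat R (A ⊞ B : ModuleCat.{u} R) := by
  haveI := hA
  haveI := hB
  have hp : Module.Flat R (A × B) := IndepBC.flat_prod R A B
  exact (Module.Flat.equiv_iff (ModuleCat.biprodIsoProd A B).toLinearEquiv).2 hp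

variable {X S T P Q : Scheme.{u}}

/-- Flatness over the base through a flat morphism. -/
theorem flat_stalkOver_comp (p : P ⟶ S) (q : S ⟶ T) [Flat q] (M : P.Modules) (z : P)
    (h : Module.Flat (S.presheaf.stalk (p z)) ((DerSch.stalkOver p z).obj M)) :
    Module.Flat (T.presheaf.stalk ((p ≫ q) z)) ((DerSch.stalkOver (p ≫ q) z).obj M) := by
  haveI := h
  have h1 := FlatCx12.PushStalk.flat_restrict _ (Flat.stalkMap q (p z)) ((DerSch.stalkOver p z).obj M)
  have hc : ((p ≫ q).stalkMap z).hom = (p.stalkMap z).hom.comp (q.stalkMap (p z)).hom := by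
    rw [Scheme.Hom.stalkMap_comp]; rfl
  exact (Module.Flat.equiv_iff
    ((ModuleCat.restrictScalarsComp' (q.stalkMap (p z)).hom (p.stalkMap z).hom ((p ≫ q).stalkMap z).hom hc).app
      ((DerSch.stalkFunctor P z).obj M)).toLinearEquiv).2 h1

/-- A finite flat model over the base of a complex of finite tor amplitude on a flat scheme over it. -/
theorem exists_flat_model (p : P ⟶ S) [Flat p] (K : CochainComplex P.Modules ℤ) {a b : ℤ}
    (h : ∀ z, DerSch.HasTorAmplitudeAt p a b K z) :
    ∃ (G G' : CochainComplex P.Modules ℤ) (π : G ⟶ G'), IsKFlatFor (shT P) G ∧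
      Nonempty (DerivedCategory.Q.obj G ≅ DerivedCategory.Q.obj K) ∧ IsIso (DerivedCategory.Q.map π) ∧
      (∀ n, b < n → IsZero (G.X n)) ∧ (∀ n, FlatMod.IsFlat (G.X n)) ∧ DCoh.VanishesOutside G' a b ∧
      ∀ n z, Module.Flat (S.presheaf.stalk (p z)) ((DerSch.stalkOver p z).obj (G'.X n)) := by
  haveI hle : (DCoh.toD P K).IsLE b := Dual22Lib.RelAmpPush.isLE_of_amp p K h
  obtain ⟨G₀, hG₀, ⟨eG⟩⟩ := (DCoh.toD P K).exists_iso_Q_obj_of_isLE b
  obtain ⟨G, r, hGk, hGf, hr, hGb⟩ := exists_kflat_sheaf_le G₀ b fun n hn => G₀.isZero_of_isStrictlyLE b n hn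
  haveI := hr
  let e : DerivedCategory.Q.obj G ≅ DerivedCategory.Q.obj K := asIso (DerivedCategory.Q.map r) ≪≫ eG.symm
  have hamp : ∀ z, DerSch.HasTorAmplitudeAt p a b G z := fun z => FlatCx12.AmpThick.amp_congr p z e.symm (h z)
  have hGt : ∀ n z, Module.Flat (S.presheaf.stalk (p z)) ((DerSch.stalkOver p z).obj (G.X n)) := fun n z => by
    haveI : Module.Flat (P.presheaf.stalk z) ((DerSch.stalkFunctor P z).obj (G.X n)) := hGf n z
    exact FlatCx12.PushStalk.flat_restrict _ (Flat.stalkMap p z) _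
  haveI : G.IsStrictlyLE b := (CochainComplex.isStrictlyLE_iff _ _).2 hGb
  haveI : G.IsGE a := by
    rw [CochainComplex.isGE_iff]
    intro i hi
    refine DCat.exactAt_iff_stalks.1 fun z => ?_
    obtain ⟨E, hE, -, ⟨eE⟩⟩ := hamp z
    have h1 : ((DerSch.stalkCxOver p z).obj G).ExactAt i := by
      rw [← DCat.isZero_homology_toD_iff]
      refine IsZero.of_iso ?_ ((DerivedCategory.homologyFunctor _ i).mapIso eE.symm)
      rw [DCat.isZero_homology_toD_iff]
      exact HomologicalComplex.ExactAt.of_isZero (hE i (Or.inl hi))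
    rw [HomologicalComplex.exactAt_iff] at h1 ⊢
    exact (ShortComplex.exact_map_iff_of_faithful _ (ModuleCat.restrictScalars.{u} (p.stalkMap z).hom)).1 h1
  haveI : QuasiIso (G.πTruncGE a) := inferInstance
  refine ⟨G, G.truncGE a, G.πTruncGE a, hGk, ⟨e⟩, Localization.inverts DerivedCategory.Q
    (HomologicalComplex.quasiIso P.Modules (ComplexShape.up ℤ)) _ ((HomologicalComplex.mem_quasiIso_iff _).2 ‹_›),
    hGb, hGf, fun i hi => ?_, fun i z => ?_⟩
  · obtain hi | hi := hi
    · exact CochainComplex.isZero_of_isStrictlyGE _ a i hi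
    · by_cases hia : i < a
      · exact CochainComplex.isZero_of_isStrictlyGE _ a i hia
      · exact CochainComplex.isZero_of_isStrictlyLE _ b i hi
  · let r := DerSch.stalkOver p z
    rcases lt_trichotomy i a with hi | rfl | hi
    · haveI := ModuleCat.subsingleton_of_isZero
        (r.map_isZero (CochainComplex.isZero_of_isStrictlyGE (G.truncGE a) a i hi))
      infer_instance
    · let P' := (DerSch.stalkCxOver p z).obj G
      haveI : ∀ N : ModuleCat.{u} (S.presheaf.stalk (p z)), DRing.HasLTensor _ N := fun N => DCat.hasLTensor N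
      have hfl := flat_cokernel_cat P'
        (isKFlatFor_of_vanishesAbove P' b (fun n hn => r.map_isZero (hGb n hn)) fun n => hGt n z)
        (fun n => hGt n z) i (Iso.refl _) fun N => vanish_of_flatAmp (hamp z) N (Or.inl (by omega))
      haveI : r.PreservesHomology := inferInstance
      exact (Module.Flat.equiv_iff ((PreservesCokernel.iso r (G.d (i - 1) i)).symm ≪≫
        r.mapIso (IsColimit.coconePointUniqueUpToIso (colimit.isColimit _)
          (G.opcyclesIsCokernel (i - 1) i (by simp)) ≪≫ (G.truncGEXIsoOpcycles i).symm)).toLinearEquiv).1 hfl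
    · exact (Module.Flat.equiv_iff (r.mapIso (G.truncGEXIso a i (by omega))).toLinearEquiv).2 (hGt i z)

/-- Inverse image along a base change tor-independent over `T` of a flat model. -/
theorem amp_pullback_model {S' T' P' : Scheme.{u}} {p : P ⟶ S} {p' : P' ⟶ S'} {h : P' ⟶ P} {g : S' ⟶ S}
    {q : S ⟶ T} {q' : S' ⟶ T'} {t : T' ⟶ T} (hT : IsPullback h p' p g) (hT₀ : IsPullback g q' q t) [Flat p] [Flat q]
    [DCoh.HasLpull h] (K : CochainComplex P.Modules ℤ) {a b : ℤ} (hK : ∀ z, DerSch.HasTorAmplitudeAt p a b K z)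
    (R : CochainComplex P'.Modules ℤ) (eR : DerivedCategory.Q.obj R ≅ (DCoh.Lpull h).obj (DerivedCategory.Q.obj K))
    (z' : P') : DerSch.HasTorAmplitudeAt p' a b R z' := by
  obtain ⟨G, G', π, hGk, ⟨e⟩, hπ, hGb, hGf, hG', hG'f⟩ := exists_flat_model p K hK
  haveI := hπ
  let ph := Scheme.Modules.pullback h
  let π' := (ph.mapHomologicalComplex (ComplexShape.up ℤ)).map π
  let C := CochainComplex.mappingCone π
  have hC : ∀ n, C.ExactAt n := fun n => by
    have hz : IsZero (DerivedCategory.Q.obj C) :=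
      (Triangle.isZero₃_iff_isIso₁ _ (DerivedCategory.mappingCone_triangle_distinguished π)).2 ‹_›
    rw [HomologicalComplex.exactAt_iff_isZero_homology]
    exact ((DerivedCategory.homologyFunctor P.Modules n).map_isZero hz).of_iso
      ((DerivedCategory.homologyFunctorFactors P.Modules n).app C).symm
  have hCb : ∀ n, b < n → IsZero (C.X n) := fun n hn => by
    refine (IsZero.iff_id_eq_zero _).2 ?_
    show 𝟙 ((CochainComplex.mappingCone π).X n) = 0
    rw [← CochainComplex.mappingCone.id_X π n (n + 1) rfl]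
    rw [(hGb (n + 1) (by omega)).eq_of_src ((CochainComplex.mappingCone.inl π).v (n + 1) n (by omega)) 0,
      (hG' n (Or.inr hn)).eq_of_src ((CochainComplex.mappingCone.inr π).f n) 0]
    simp
  have hCf : ∀ (n : ℤ) (z : P), Module.Flat (T.presheaf.stalk ((p ≫ q) z)) ((DerSch.stalkOver (p ≫ q) z).obj (C.X n)) := by
    intro n z
    let r := DerSch.stalkOver (p ≫ q) z
    have h1 : Module.Flat (T.presheaf.stalk ((p ≫ q) z)) (r.obj (G.X (n + 1))) := by
      haveI : Module.Flat (P.presheaf.stalk z) ((DerSch.stalkFunctor P z).obj (G.X (n + 1))) := hGf (n + 1) z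
      exact FlatCx12.PushStalk.flat_restrict _ (Flat.stalkMap (p ≫ q) z) _
    have h2 : Module.Flat (T.presheaf.stalk ((p ≫ q) z)) (r.obj (G'.X n)) := flat_stalkOver_comp p q _ z (hG'f n z)
    haveI : PreservesBinaryBiproduct (G.X (n + 1)) (G'.X n) r := preservesBinaryBiproduct_of_preservesBiproduct _ _ _
    exact (Module.Flat.equiv_iff (r.mapIso (HomologicalComplex.homotopyCofiber.XIsoBiprod π n (n + 1) rfl) ≪≫
      r.mapBiprod _ _).toLinearEquiv).2 (flat_prod_cat _ _ h1 h2)
  have hπ' : IsIso (DerivedCategory.Q.map π') := by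
    refine (Triangle.isZero₃_iff_isIso₁ _ (DerivedCategory.mappingCone_triangle_distinguished π')).1 ?_
    refine IsZero.of_iso ?_ (DerivedCategory.Q.mapIso (CochainComplex.mappingCone.mapHomologicalComplexIso π ph).symm)
    exact CohDimShift.isZero_Q_of_acyclic _ fun n =>
      IndepBC.exactAt_pullback_base (hT.paste_vert hT₀) C b hCb hCf hC n
  let G'' := (ph.mapHomologicalComplex (ComplexShape.up ℤ)).obj G'
  haveI := hπ'
  have hG''a : DerSch.HasTorAmplitudeAt p' a b G'' z' := by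
    refine ⟨(DerSch.stalkCxOver p' z').obj G'', fun j hj => (DerSch.stalkOver p' z').map_isZero
      (ph.map_isZero (hG' j hj)), fun j => ?_, ⟨Iso.refl _⟩⟩
    exact Desc19b.isFlatOverAt_baseChange p p' h g hT (G'.X j) z' (hG'f j _)
  exact FlatCx12.AmpThick.amp_congr p' z'
    ((asIso (DerivedCategory.Q.map π')).symm ≪≫ (PullPerf.lpullIso h hGk).symm ≪≫ (DCoh.Lpull h).mapIso e ≪≫ eR.symm)
    hG''a

/-- Tor amplitude under a change of base tor-independent over `T`. -/
theorem amp_baseChange_indep {X' S' T' : Scheme.{u}} {f : X ⟶ S} {g : S' ⟶ S} {f' : X' ⟶ S'} {g' : X' ⟶ X}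
    {q : S ⟶ T} {q' : S' ⟶ T'} {t : T' ⟶ T} (hT₀ : IsPullback g q' q t) (hc : IsPullback g' f' f g)
    [Flat q] [Flat (f ≫ q)] [DCoh.HasLpull g'] (F : CochainComplex X.Modules ℤ) {a b : ℤ}
    (hF : DerSch.HasTorAmplitude f a b F) :
    DerSch.HasTorAmplitudeD f' a b ((DCoh.Lpull g').obj (DCoh.toD X F)) := by
  intro F' hF' x'
  obtain ⟨eF⟩ := hF'
  obtain ⟨V₀, hV₀, hxV, -⟩ := TopologicalSpace.Opens.isBasis_iff_nbhd.1 S.isBasis_affineOpens (U := ⊤)
    (x := f (g' x')) trivial
  let V : S.Opens := V₀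
  have hV : IsAffineOpen V := hV₀
  obtain ⟨U₀, hU₀, hxU, hUV₀⟩ := TopologicalSpace.Opens.isBasis_iff_nbhd.1 X.isBasis_affineOpens
    (U := f ⁻¹ᵁ V) (x := g' x') hxV
  let U : X.Opens := U₀
  have hU : IsAffineOpen U := hU₀
  have hUV : U ≤ f ⁻¹ᵁ V := hUV₀
  letI := (f.appLE V U hUV).hom.toAlgebra
  let φ : MvPolynomial Γ(X, U) Γ(S, V) →+* Γ(X, U) :=
    (MvPolynomial.aeval (id : Γ(X, U) → Γ(X, U))).toRingHom
  have hφ : Function.Surjective φ := fun y => ⟨MvPolynomial.X y, MvPolynomial.aeval_X _ y⟩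
  haveI : IsClosedImmersion (U.toSpecΓ ≫ Spec.map (CommRingCat.ofHom φ)) := isClosedImmersion_along hU hφ
  let P := Spec (CommRingCat.of (MvPolynomial Γ(X, U) Γ(S, V)))
  let i : U.toScheme ⟶ P := U.toSpecΓ ≫ Spec.map (CommRingCat.ofHom φ)
  let p : P ⟶ S := Spec.map (CommRingCat.ofHom (MvPolynomial.C : Γ(S, V) →+* _)) ≫ hV.fromSpec
  haveI := flat_mvPoly_toSpec Γ(S, V) Γ(X, U)
  haveI : Flat p := inferInstanceAs (Flat (_ ≫ _))
  have hip : i ≫ p = U.ι ≫ f := by
    have hφC : φ.comp MvPolynomial.C = (f.appLE V U hUV).hom := RingHom.ext fun r => MvPolynomial.aeval_C _ r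
    rw [Category.assoc, ← Category.assoc (Spec.map _), ← Spec.map_comp, ← CommRingCat.ofHom_comp, hφC,
      CommRingCat.ofHom_hom, ← Category.assoc, Scheme.Opens.toSpecΓ_SpecMap_appLE, Category.assoc,
      hV.toSpecΓ_fromSpec, Scheme.Hom.resLE_comp_ι]
  let P' := pullback p g
  let h : P' ⟶ P := pullback.fst p g
  let p' : P' ⟶ S' := pullback.snd p g
  have hT : IsPullback h p' p g := IsPullback.of_hasPullback _ _
  let U' : X'.Opens := g' ⁻¹ᵁ U
  let gU : U'.toScheme ⟶ U.toScheme := g' ∣_ U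
  have hsq : IsPullback gU U'.ι U.ι g' := isPullback_morphismRestrict g' U
  have hout : IsPullback gU (U'.ι ≫ f') (U.ι ≫ f) g := hsq.paste_vert hc
  let i' : U'.toScheme ⟶ P' := pullback.lift (gU ≫ i) (U'.ι ≫ f') (by
    rw [Category.assoc, hip]; exact hout.w)
  have hi' : i' ≫ p' = U'.ι ≫ f' := pullback.lift_snd _ _ _
  have hsqi : IsPullback gU i' i h := by
    refine IsPullback.of_bot ?_ (pullback.lift_fst _ _ _).symm hT
    rw [hi', hip]
    exact hout
  haveI : IsClosedImmersion i' := MorphismProperty.of_isPullback hsqi inferInstance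
  haveI : Flat (p ≫ q) := inferInstance
  haveI : Flat (i ≫ p ≫ q) := by
    rw [← Category.assoc, hip, Category.assoc]
    infer_instance
  haveI := preservesFiniteColimits_iso i
  haveI := preservesFiniteColimits_iso i'
  haveI := hasLpull h
  haveI := hasLpull gU
  haveI := hasLpull U'.ι
  haveI := hasLpull U.ι
  haveI := hasLpull (U'.ι ≫ g')
  haveI := hasLpull (gU ≫ U.ι)
  haveI := PullPerf.preservesFiniteLimits_restrict U.ι
  haveI := PullPerf.preservesFiniteLimits_restrict U'.ι
  let FU := ((Scheme.Modules.restrictFunctor U.ι).mapHomologicalComplex (ComplexShape.up ℤ)).obj F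
  let A := (PerfLocal.rd U.ι).obj (DCoh.toD X F)
  let eA : A ≅ DerivedCategory.Q.obj FU := (Scheme.Modules.restrictFunctor U.ι).mapDerivedCategoryFactors.app F
  let K := ((Scheme.Modules.pushforward i).mapHomologicalComplex (ComplexShape.up ℤ)).obj FU
  let eK : (pd i).obj A ≅ DerivedCategory.Q.obj K :=
    (pd i).mapIso eA ≪≫ (Scheme.Modules.pushforward i).mapDerivedCategoryFactors.app FU
  have hK : ∀ z, DerSch.HasTorAmplitudeAt p a b K z := fun z => by
    by_cases hz : z ∈ Set.range i.base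
    · obtain ⟨x, rfl⟩ := hz
      refine (FlatCx12.PushStalk.amp_push_iff i p FU a b x).2 ?_
      rw [hip]
      obtain ⟨E, h1, h2, ⟨j⟩⟩ := hF (U.ι x)
      obtain ⟨s⟩ := FlatCx12.AmpFibre.nonempty_stalk_restrict f U.ι F x
      exact ⟨E, h1, h2, ⟨j ≪≫ s⟩⟩
    · refine FlatCx12.TorAmpComp.amp_of_isZero _ ?_ a b
      refine (IsZero.iff_id_eq_zero _).2 (HomologicalComplex.hom_ext _ _ fun n => IsZero.eq_of_src ?_ _ _)
      haveI : Subsingleton ((DerSch.stalkOver p z).obj (K.X n)) := ClosedPush.subsingleton_stalk_push i (FU.X n) z hz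
      exact ModuleCat.isZero_of_subsingleton ((DerSch.stalkOver p z).obj (K.X n))
  obtain ⟨β⟩ := IndepBC.nonempty_Lpull_pd_indep (hT.paste_vert hT₀) hsqi A b
    (isLE_map (Scheme.Modules.restrictFunctor U.ι) _ b (Dual22Lib.RelAmpPush.isLE_of_amp f F hF))
  let FU' := ((Scheme.Modules.restrictFunctor U'.ι).mapHomologicalComplex (ComplexShape.up ℤ)).obj F'
  obtain ⟨a₁⟩ := nonempty_LpullComp gU U.ι
  obtain ⟨a₂⟩ := nonempty_LpullComp U'.ι g'
  obtain ⟨a₃⟩ := RelTensor.nonempty_Lpull_congr (hsq.w) (DCoh.toD X F)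
  obtain ⟨b₁⟩ := DQCoh.nonempty_Lpull_restrict U.ι (DCoh.toD X F)
  obtain ⟨b₂⟩ := DQCoh.nonempty_Lpull_restrict U'.ι ((DCoh.Lpull g').obj (DCoh.toD X F))
  let eU : (DCoh.Lpull gU).obj A ≅ DerivedCategory.Q.obj FU' :=
    (DCoh.Lpull gU).mapIso b₁.symm ≪≫ a₁.app _ ≪≫ a₃ ≪≫ (a₂.app _).symm ≪≫ b₂ ≪≫
      (PerfLocal.rd U'.ι).mapIso eF.symm ≪≫ (Scheme.Modules.restrictFunctor U'.ι).mapDerivedCategoryFactors.app F'
  let R := ((Scheme.Modules.pushforward i').mapHomologicalComplex (ComplexShape.up ℤ)).obj FU'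
  let eR : DerivedCategory.Q.obj R ≅ (DCoh.Lpull h).obj (DerivedCategory.Q.obj K) :=
    ((Scheme.Modules.pushforward i').mapDerivedCategoryFactors.app FU').symm ≪≫ (pd i').mapIso eU.symm ≪≫
      β.symm ≪≫ (DCoh.Lpull h).mapIso eK
  have hx' : x' ∈ U' := hxU
  have h1 := (FlatCx12.PushStalk.amp_push_iff i' p' FU' a b ⟨x', hx'⟩).1
    (amp_pullback_model hT hT₀ K hK R eR _)
  rw [hi'] at h1
  exact FlatCx12.PushStalk.amp_of_restrict f' U'.ι F' ⟨x', hx'⟩ h1

end Groth.Agent.KSix16.ExternalAmp
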