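import Groth.Agent.KSix16.External

/-!
# Bounds for tensor products of a complex of finite relative tor amplitude with pulled back objects
-/

set_option autoImplicit false
set_option backward.isDefEq.respectTransparency false
set_option backward.defeqAttrib.useBackward true
set_option linter.style.haveILetI false
set_option synthInstance.maxHeartbeats 100000

universe u

open CategoryTheory CategoryTheory.Limits DerivedCategory AlgebraicGeometry HomologicalComplex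
open Groth.Agent.DCat Groth.Agent.ModStalk Groth.Agent.FlatCx12

attribute [local instance] HasDerivedCategory.standard
attribute [-instance] Int.instConditionallyCompleteLinearOrder

namespace Groth.Agent.KSix16.ExternalGE

/-- A complex of finite flat amplitude tensored with a bounded K-flat one. -/
theorem exactAt_tot_amp {A : Type u} [CommRing A] {K L : DRing.Cx A} (hL : IsKFlatFor (modT A) L) {a b c d : ℤ}
    (hK : DRing.HasTorAmplitudeIn A a b (DRing.toD K)) (hLb : ∀ i, i < c ∨ d < i → L.ExactAt i) {i : ℤ}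
    (hi : i < a + c ∨ b + d < i) : (tot (modT A) K L).ExactAt i := by
  obtain ⟨E, hE, hEf, ⟨e⟩⟩ := hK
  obtain ⟨Z, s, hs, g, hg⟩ := DerivedCategory.right_fac e.hom
  haveI : IsIso (DerivedCategory.Q.map g) := by
    haveI : IsIso (inv (DerivedCategory.Q.map s) ≫ DerivedCategory.Q.map g) := hg ▸ e.isIso_hom
    exact IsIso.of_isIso_comp_left (inv (DerivedCategory.Q.map s)) _
  haveI := (DerivedCategory.isIso_Q_map_iff_quasiIso _ s).1 hs
  haveI := (DerivedCategory.isIso_Q_map_iff_quasiIso _ g).1 ‹_›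
  haveI := hL.quasiIso_map (T := modT A) s
  haveI := hL.quasiIso_map (T := modT A) g
  have h0 : (tot (modT A) E L).ExactAt i :=
    (AmpTot.exactAt_tot_bounded hLb hE hEf hi).of_iso (totSymm L E)
  exact (exactAt_iff_of_quasiIsoAt (totMap₁ (modT A) g L) i).1
    ((exactAt_iff_of_quasiIsoAt (totMap₁ (modT A) s L) i).2 h0)

variable {X W : Scheme.{u}}

/-- Bounds of `Lu^* G ⊗^L F`. -/
theorem bounds_tensor_pull (u' : X ⟶ W) (F : CochainComplex X.Modules ℤ) {a b : ℤ}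
    (hF : DerSch.HasTorAmplitude u' a b F) [DCoh.HasLpull u'] [DCoh.HasLTensorCx F] (G : DCoh.D W) (c d : ℤ)
    [G.IsGE c] [G.IsLE d] :
    ((DCoh.LTensorCx F).obj ((DCoh.Lpull u').obj G)).IsGE (a + c) ∧
      ((DCoh.LTensorCx F).obj ((DCoh.Lpull u').obj G)).IsLE (b + d) := by
  obtain ⟨L, hL, ⟨eL⟩⟩ := PullPerf.exists_kflat_rep G
  let T := tot (shT X) (((Scheme.Modules.pullback u').mapHomologicalComplex (ComplexShape.up ℤ)).obj L) F
  let e : (DCoh.LTensorCx F).obj ((DCoh.Lpull u').obj G) ≅ DerivedCategory.Q.obj T :=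
    (DCoh.LTensorCx F).mapIso ((DCoh.Lpull u').mapIso eL.symm ≪≫ PullPerf.lpullIso u' hL) ≪≫
      LTensorSheaf.ltensorCxIso F (PullTot.isKFlatFor_pullback u' hL)
  have hT : ∀ i, i < a + c ∨ b + d < i → T.ExactAt i := fun i hi => by
    refine DCat.exactAt_iff_stalks.1 fun x => ?_
    let σ := (u'.stalkMap x).hom
    let y := u'.base x
    let rσ := (ModuleCat.restrictScalars.{u} σ).mapHomologicalComplex (ComplexShape.up ℤ)
    let Ly := (stalkK y).obj L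
    let Fx := (stalkK x).obj F
    have hLy : IsKFlatFor (modT (W.presheaf.stalk y)) Ly := (isKFlatFor_iff_stalks L).1 hL y
    have h1 : DRing.HasTorAmplitudeIn (W.presheaf.stalk y) a b (DRing.toD (rσ.obj Fx)) :=
      TorAmpComp.amp_iso (DerivedCategory.Q.mapIso (Hom.isoOfComponents (fun i => Iso.refl _)
        (fun p q _ => (Category.id_comp _).trans (Category.comp_id _).symm))) (hF x)
    have hLb : ∀ j, j < c ∨ d < j → Ly.ExactAt j := fun j hj => by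
      refine ((isZero_HD_toD_iff L j).1 (IsZero.of_iso ?_
        ((DerivedCategory.homologyFunctor W.Modules j).mapIso eL))).map (DerSch.stalkFunctor W y)
      obtain hj | hj := hj
      · exact DerivedCategory.isZero_of_isGE G c j hj
      · exact DerivedCategory.isZero_of_isLE G d j hj
    let ext := (ModuleCat.extendScalars.{u, u, u} σ).mapHomologicalComplex (ComplexShape.up ℤ)
    let ep : ext.obj Ly ≅ (stalkK x).obj (((Scheme.Modules.pullback u').mapHomologicalComplex (ComplexShape.up ℤ)).obj L) :=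
      Hom.isoOfComponents (fun i => (ModStalk.pullbackStalkIso u' x).symm.app (L.X i))
        (fun p q _ => ((ModStalk.pullbackStalkIso u' x).symm.hom.naturality (L.d p q)).symm)
    let e₁ : rσ.obj (tot (modT (X.presheaf.stalk x)) Fx (ext.obj Ly)) ≅ tot (modT (W.presheaf.stalk y)) (rσ.obj Fx) Ly :=
      totExtIso σ Fx Ly
    let e₂ : tot (modT (X.presheaf.stalk x)) Fx (ext.obj Ly) ≅ (stalkK x).obj T :=
      ((modT (X.presheaf.stalk x)).map₂CochainComplex.obj Fx).mapIso ep ≪≫ totSymm Fx _ ≪≫ (stalkTotIso x _ F).symm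
    have h2 := (exactAt_tot_amp hLy h1 hLb hi).of_iso (e₁.symm ≪≫ rσ.mapIso e₂)
    rw [exactAt_iff] at h2 ⊢
    exact (ShortComplex.exact_map_iff_of_faithful _ (ModuleCat.restrictScalars.{u} σ)).1 h2
  refine ⟨(DerivedCategory.isGE_iff _ _).2 fun i hi => ?_, (DerivedCategory.isLE_iff _ _).2 fun i hi => ?_⟩
  · exact ((isZero_HD_toD_iff T i).2 (hT i (Or.inl hi))).of_iso ((DerivedCategory.homologyFunctor X.Modules i).mapIso e)
  · exact ((isZero_HD_toD_iff T i).2 (hT i (Or.inr hi))).of_iso ((DerivedCategory.homologyFunctor X.Modules i).mapIso e)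

variable {S X₁ Y₁ X₂ Y₂ Y : Scheme.{u}} (f₁ : X₁ ⟶ Y₁) (q₁ : Y₁ ⟶ S) (f₂ : X₂ ⟶ Y₂) (q₂ : Y₂ ⟶ S)
  [Flat q₁] [Flat (f₁ ≫ q₁)] (pX₁ : X ⟶ X₁) (pX₂ : X ⟶ X₂) (hX : IsPullback pX₁ pX₂ (f₁ ≫ q₁) (f₂ ≫ q₂))
  (pY₁ : Y ⟶ Y₁) (pY₂ : Y ⟶ Y₂) (hY : IsPullback pY₁ pY₂ q₁ q₂)
  (f : X ⟶ Y) (hf₁ : f ≫ pY₁ = pX₁ ≫ f₁) (hf₂ : f ≫ pY₂ = pX₂ ≫ f₂)
  [DCoh.HasLpull pX₁] [DCoh.HasLpull pX₂] (K₂ : CochainComplex X.Modules ℤ) [DCoh.HasLTensorCx K₂]
  (E₂ : CochainComplex X₂.Modules ℤ) (eK : DerivedCategory.Q.obj K₂ ≅ (DCoh.Lpull pX₂).obj (DerivedCategory.Q.obj E₂))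

include hX hY hf₁ hf₂ eK in
/-- Bounds, first factor of finite amplitude and flat over the base. -/
theorem bounds_external (E₁ : CochainComplex X₁.Modules ℤ) {a₁ b₁ a₂ b₂ : ℤ} (h₁ : DerSch.HasTorAmplitude f₁ a₁ b₁ E₁)
    (hge : (DerivedCategory.Q.obj E₂).IsGE a₂) (hle : (DerivedCategory.Q.obj E₂).IsLE b₂) :
    ((DCoh.LTensorCx K₂).obj ((DCoh.Lpull pX₁).obj (DerivedCategory.Q.obj E₁))).IsGE (a₁ + a₂) ∧
      ((DCoh.LTensorCx K₂).obj ((DCoh.Lpull pX₁).obj (DerivedCategory.Q.obj E₁))).IsLE (b₁ + b₂) := by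
  obtain ⟨W, u', v, w, huv, huw, hW, hT, hc⟩ :=
    External.exists_factor f₂ q₂ f₁ q₁ pX₂ pX₁ hX.flip pY₂ pY₁ hY.flip f hf₂ hf₁
  haveI : Flat pY₂ := MorphismProperty.of_isPullback (P := @Flat) hY inferInstance
  haveI : Flat w := MorphismProperty.of_isPullback (P := @Flat) hW.flip inferInstance
  haveI := hasLpull w
  haveI := hasLpull u'
  let K₁ := DerivedCategory.Q.objPreimage ((DCoh.Lpull pX₁).obj (DerivedCategory.Q.obj E₁))
  let eK₁ : DerivedCategory.Q.obj K₁ ≅ (DCoh.Lpull pX₁).obj (DerivedCategory.Q.obj E₁) :=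
    DerivedCategory.Q.objObjPreimageIso _
  haveI := LTensorSheaf.hasLTensorCx K₁
  have hK₁ : DerSch.HasTorAmplitude u' a₁ b₁ K₁ := ExternalAmp.amp_baseChange_indep hT hc E₁ h₁ K₁ ⟨eK₁⟩
  obtain ⟨β⟩ := Dual6Lib.BCShriekAffine.nonempty_Lpull_Gd w
  haveI : ((DCoh.Lpull w).obj (DerivedCategory.Q.obj E₂)).IsGE a₂ :=
    haveI := hge
    haveI := Dual6Lib.HomFlat.isGE_Gd w (K := DerivedCategory.Q.obj E₂) a₂
    DerivedCategory.TStructure.t.isGE_of_iso (β.app _).symm a₂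
  haveI := PullPerf.isLE_Lpull w _ b₂ hle
  obtain ⟨hg, hl⟩ := bounds_tensor_pull u' K₁ hK₁ ((DCoh.Lpull w).obj (DerivedCategory.Q.obj E₂)) a₂ b₂
  obtain ⟨e⟩ := External.nonempty_factor huw (DerivedCategory.Q.obj E₂)
  obtain ⟨s⟩ := External.nonempty_swap_rep K₁ K₂ eK₁ eK
  let i := (DCoh.LTensorCx K₁).mapIso e ≪≫ s
  exact ⟨DerivedCategory.TStructure.t.isGE_of_iso i _, DerivedCategory.TStructure.t.isLE_of_iso i _⟩

include hX hY hf₁ hf₂ eK in
/-- Pseudo-coherence, first factor flat over the base. -/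
theorem rel_external [LocallyOfFiniteType f₁] [LocallyOfFiniteType f₂] (E₁ : DCoh.D X₁) {a₁ b₁ a₂ b₂ m : ℤ}
    (h₁ : DerSch.IsPseudoCoherentRel f₁ a₁ E₁) (hb₁ : E₁.IsLE b₁)
    (h₂ : DerSch.IsPseudoCoherentRel f₂ a₂ (DerivedCategory.Q.obj E₂)) (hb₂ : (DerivedCategory.Q.obj E₂).IsLE b₂)
    (hm₁ : a₁ + b₂ ≤ m) (hm₂ : a₂ + b₁ ≤ m) :
    DerSch.IsPseudoCoherentRel f m ((DCoh.LTensorCx K₂).obj ((DCoh.Lpull pX₁).obj E₁)) := by
  let K₁ := DerivedCategory.Q.objPreimage ((DCoh.Lpull pX₁).obj E₁)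
  let eK₁ : DerivedCategory.Q.obj K₁ ≅ (DCoh.Lpull pX₁).obj E₁ := DerivedCategory.Q.objObjPreimageIso _
  haveI := LTensorSheaf.hasLTensorCx K₁
  let A₁ := DerivedCategory.Q.objPreimage E₁
  let eA : DerivedCategory.Q.obj A₁ ≅ E₁ := DerivedCategory.Q.objObjPreimageIso _
  have h1' : DerSch.IsPseudoCoherentRel f₁ a₁ (DerivedCategory.Q.obj A₁) := FlatCx12.RelPCFlatBC.rel_iso eA.symm h₁
  have h := External.rel_external f₂ q₂ f₁ q₁ pX₂ pX₁ hX.flip pY₂ pY₁ hY.flip f hf₂ hf₁ K₁ A₁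
    (eK₁ ≪≫ (DCoh.Lpull pX₁).mapIso eA.symm) (DerivedCategory.Q.obj E₂) h₂ hb₂ h1'
    (@CategoryTheory.Triangulated.TStructure.isLE_of_iso _ _ _ _ _ _ _ DerivedCategory.TStructure.t _ _ eA.symm b₁ hb₁)
    hm₂ hm₁
  obtain ⟨s⟩ := External.nonempty_swap_rep K₁ K₂ eK₁ eK
  haveI := h.1
  exact FlatCx12.RelPCFlatBC.rel_iso s h

end Groth.Agent.KSix16.ExternalGE
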