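import Groth.Agent.KSix16.IndepBC

/-!
# Base change of relative pseudo-coherence: flat, or tor-independent over a base
-/

set_option autoImplicit false
set_option backward.isDefEq.respectTransparency false
set_option backward.defeqAttrib.useBackward true
set_option linter.style.haveILetI false
set_option synthInstance.maxHeartbeats 100000

universe u

open CategoryTheory CategoryTheory.Limits DerivedCategory AlgebraicGeometry
open Groth.Agent.DCat Groth.Agent.FlatCx12.RelPCChart Groth.Agent.FlatCx12.RelPCOps Groth.Agent.FlatCx12.EmbPush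

attribute [local instance] HasDerivedCategory.standard
attribute [-instance] Int.instConditionallyCompleteLinearOrder

namespace Groth.Agent.KSix16.ExternalRel

variable {X X' S S' T T' : Scheme.{u}} {f : X ⟶ S} {g : S' ⟶ S} {f' : X' ⟶ S'} {g' : X' ⟶ X}

/-- Base change through a family of charts, given base change of the direct images along their immersions. -/
theorem rel_of_chart_iso (hc : IsPullback g' f' f g) [LocallyOfFiniteType f] [LocallyOfFiniteType f']
    [DCoh.HasLpull g'] (E : DCoh.D X) {m : ℤ} (hE : DerSch.IsPseudoCoherentRel f m E)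
    (key : ∀ (U : X.Opens) (_ : IsAffineOpen U) {P P' U' : Scheme.{u}} (p : P ⟶ S) (_ : Flat p) (i : U.toScheme ⟶ P)
      (_ : IsClosedImmersion i) (h : P' ⟶ P) (p' : P' ⟶ S') (i' : U' ⟶ P') (_ : IsClosedImmersion i')
      (gU : U' ⟶ U.toScheme) (_ : PreservesFiniteColimits (Scheme.Modules.pushforward i))
      (_ : PreservesFiniteColimits (Scheme.Modules.pushforward i')) (_ : DCoh.HasLpull h) (_ : DCoh.HasLpull gU)
      (j' : U' ⟶ X') (_ : IsPullback gU j' U.ι g'),
      i ≫ p = U.ι ≫ f → IsPullback h p' p g → IsPullback gU i' i h →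
        Nonempty ((DCoh.Lpull h).obj ((pd i).obj ((PerfLocal.rd U.ι).obj E)) ≅
          (pd i').obj ((DCoh.Lpull gU).obj ((PerfLocal.rd U.ι).obj E)))) :
    DerSch.IsPseudoCoherentRel f' m ((DCoh.Lpull g').obj E) := by
  rw [rel_iff_chart] at hE
  choose U₁ V₁ hle₁ hx₁ using fun y => exists_affine_pair f y
  refine FlatCx12.RelPCRestrict.rel_of_cover f' m _ (fun x' => (g' ⁻¹ᵁ (U₁ (g' x')).1).ι)
    (fun x' => ⟨x', ⟨x', hx₁ _⟩, rfl⟩) fun x' => ?_
  let U := (U₁ (g' x')).1
  let V := V₁ (g' x')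
  algebraize [(f.appLE V.1 U (hle₁ _)).hom]
  obtain ⟨n, π, hπ⟩ := Algebra.FiniteType.iff_quotient_mvPolynomial''.1
    (show Algebra.FiniteType Γ(S, V.1) Γ(X, U) from f.finiteType_appLE V.2 (U₁ _).2 (hle₁ _))
  let c : Chart f := ⟨U₁ (g' x'), V, hle₁ _, n, π.toRingHom, hπ, RingHom.ext fun r => π.commutes r⟩
  haveI hci : IsClosedImmersion c.imm := isClosedImmersion_along (U₁ _).2 hπ
  let p := chartBase c
  haveI := flat_affineSpace_toSpec Γ(S, V.1) n
  haveI := lfp_affineSpace_toSpec Γ(S, V.1) n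
  haveI hpf : Flat p := inferInstanceAs (Flat (_ ≫ _))
  haveI : LocallyOfFinitePresentation p := inferInstanceAs (LocallyOfFinitePresentation (_ ≫ _))
  let P' := pullback p g
  let h : P' ⟶ c.space := pullback.fst p g
  let p' : P' ⟶ S' := pullback.snd p g
  haveI : Flat p' := MorphismProperty.pullback_snd _ _ inferInstance
  haveI : LocallyOfFinitePresentation p' := MorphismProperty.pullback_snd _ _ inferInstance
  have hT : IsPullback h p' p g := IsPullback.of_hasPullback _ _
  let U' : X'.Opens := g' ⁻¹ᵁ U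
  let gU : U'.toScheme ⟶ U.toScheme := g' ∣_ U
  have hsq : IsPullback gU U'.ι U.ι g' := isPullback_morphismRestrict g' U
  have hout : IsPullback gU (U'.ι ≫ f') (U.ι ≫ f) g := hsq.paste_vert hc
  have himm : c.imm ≫ p = U.ι ≫ f := imm_chartBase c
  let i' : U'.toScheme ⟶ P' := pullback.lift (gU ≫ c.imm) (U'.ι ≫ f') (by
    rw [Category.assoc, himm]; exact hout.w)
  have hi' : i' ≫ p' = U'.ι ≫ f' := pullback.lift_snd _ _ _
  have hsqi : IsPullback gU i' c.imm h := by
    refine IsPullback.of_bot ?_ (pullback.lift_fst _ _ _).symm hT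
    rw [hi', himm]
    exact hout
  haveI : IsClosedImmersion i' := MorphismProperty.of_isPullback hsqi inferInstance
  haveI := preservesFiniteColimits_iso c.imm
  haveI := preservesFiniteColimits_iso i'
  haveI := hasLpull h
  haveI := hasLpull gU
  haveI := hasLpull U'.ι
  haveI := hasLpull U.ι
  haveI := hasLpull (U'.ι ≫ g')
  haveI := hasLpull (gU ≫ U.ι)
  obtain ⟨β⟩ := key U (U₁ _).2 p hpf c.imm hci h p' i' inferInstance gU inferInstance inferInstance inferInstance
    inferInstance U'.ι hsq himm hT hsqi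
  have h1 : DCoh.IsPseudoCoherentD m ((pd i').obj ((DCoh.Lpull gU).obj ((PerfLocal.rd U.ι).obj E))) :=
    PCTriangle.psc_iso β (PullPerf.isPseudoCoherentD_Lpull h m _ (hE c))
  have h2 := (rel_push_iff i' p' m _).2 ((rel_iff_psc p' m _).2 h1)
  rw [hi'] at h2
  obtain ⟨a₁⟩ := nonempty_LpullComp gU U.ι
  obtain ⟨a₂⟩ := nonempty_LpullComp U'.ι g'
  obtain ⟨a₃⟩ := RelTensor.nonempty_Lpull_congr (hsq.w) E
  obtain ⟨b₁⟩ := DQCoh.nonempty_Lpull_restrict U.ι E
  obtain ⟨b₂⟩ := DQCoh.nonempty_Lpull_restrict U'.ι ((DCoh.Lpull g').obj E)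
  exact FlatCx12.RelPCFlatBC.rel_iso
    ((DCoh.Lpull gU).mapIso b₁.symm ≪≫ a₁.app E ≪≫ a₃ ≪≫ (a₂.app E).symm ≪≫ b₂) h2

/-- Flat change of the base, for any object. -/
theorem rel_baseChange_flat (hc : IsPullback g' f' f g) [Flat g] [LocallyOfFiniteType f] [LocallyOfFiniteType f']
    [DCoh.HasLpull g'] (E : DCoh.D X) {m : ℤ} (hE : DerSch.IsPseudoCoherentRel f m E) :
    DerSch.IsPseudoCoherentRel f' m ((DCoh.Lpull g').obj E) := by
  refine rel_of_chart_iso hc E hE fun U hU P P' U' p hp i hi h p' i' hi' gU _ _ _ _ j' hj _ hT hsq => ?_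
  haveI := hi
  haveI := hi'
  haveI : Flat h := MorphismProperty.of_isPullback (P := @Flat) hT.flip inferInstance
  haveI : Flat g' := MorphismProperty.of_isPullback (P := @Flat) hc.flip inferInstance
  haveI : Flat gU := MorphismProperty.of_isPullback (P := @Flat) hj.flip inferInstance
  exact RelTensor.nonempty_Lpull_pd hsq _

/-- Change of the base tor-independent over `T`, for locally bounded above objects. -/
theorem rel_baseChange_indep {q : S ⟶ T} {q' : S' ⟶ T'} {t : T' ⟶ T} (hT₀ : IsPullback g q' q t)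
    (hc : IsPullback g' f' f g) [Flat q] [Flat (f ≫ q)] [LocallyOfFiniteType f] [LocallyOfFiniteType f']
    [DCoh.HasLpull g'] (E : DCoh.D X) (b : ℤ) (hb : E.IsLE b) {m : ℤ} (hE : DerSch.IsPseudoCoherentRel f m E) :
    DerSch.IsPseudoCoherentRel f' m ((DCoh.Lpull g').obj E) := by
  refine rel_of_chart_iso hc E hE fun U hU P P' U' p hp i hi h p' i' hi' gU _ _ _ _ j' hj hip hT hsq => ?_
  haveI := hi
  haveI := hi'
  haveI := hp
  haveI : Flat (p ≫ q) := inferInstance
  haveI : Flat (i ≫ p ≫ q) := by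
    rw [← Category.assoc, hip, Category.assoc]
    infer_instance
  exact IndepBC.nonempty_Lpull_pd_indep (hT.paste_vert hT₀) hsq _ b
    (isLE_map (Scheme.Modules.restrictFunctor U.ι) E b hb)

end Groth.Agent.KSix16.ExternalRel
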