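import Groth.Agent.Dual22Lib.HpConv
import Groth.Agent.DCat.DTenCore
import Groth.Agent.DualLib.SurjTensorBase
import Groth.Prelude.Def_DRing4

/-!
# One-sided exactness of `M ↦ H^p(M ⊗^L F)` spreads out from a point
-/

set_option autoImplicit false
set_option backward.isDefEq.respectTransparency false
set_option backward.defeqAttrib.useBackward true
set_option linter.style.haveILetI false
set_option synthInstance.maxHeartbeats 100000
set_option backward.isDefEq.respectTransparency.types false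

universe u

open CategoryTheory CategoryTheory.Limits CategoryTheory.Pretriangulated DerivedCategory Opposite AlgebraicGeometry
open HomologicalComplex TensorProduct
open Groth.Agent.DCat Groth.Agent.ModStalk Groth.Agent.Dual22Lib.HpFlatAlg Groth.Agent.Dual22Lib.HpTransfer
open Groth.Agent.Dual22Lib

attribute [local instance] HasDerivedCategory.standard
attribute [-instance] Int.instConditionallyCompleteLinearOrder

namespace Groth.Agent.KSix16.HpLocal

section Ring

variable {A : Type u} [CommRing A]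

/-- `M ↦ H^p(M ⊗ C)`. -/
noncomputable abbrev TH (C : CochainComplex (ModuleCat.{u} A) ℤ) (p : ℤ) : ModuleCat.{u} A ⥤ ModuleCat.{u} A :=
  tenL C ⋙ HomologicalComplex.homologyFunctor (ModuleCat.{u} A) (ComplexShape.up ℤ) p

/-- `M ↦ H^p(M ⊗^L K)` through a K-flat representative. -/
theorem nonempty_ringG (K P : DRing.Cx A) [DRing.HasLTensorCx A K] (hP : IsKFlatFor (modT A) P)
    (eP : DerivedCategory.Q.obj P ≅ DerivedCategory.Q.obj K) (p : ℤ) :
    Nonempty (DerivedCategory.singleFunctor (ModuleCat.{u} A) 0 ⋙ DRing.LTensorCx A K ⋙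
      DerivedCategory.homologyFunctor (ModuleCat.{u} A) p ≅ TH P p) := by
  haveI := hasLTen A
  haveI := DualLib.SurjT.isIso_toLTensorCx (P := A) K
  haveI : ∀ S, IsIso ((DTen.εRight A P).app S) := fun S => isIso_ε_of_right hP
  haveI := NatIso.isIso_of_isIso_app (DTen.εRight A P)
  let sT : CochainComplex.singleFunctor (ModuleCat.{u} A) 0 ⋙ MonoidalCategory.tensorRight P ≅ tenL P :=
    (NatIso.ofComponents (fun M => @asIso _ _ _ _ (singleTot (modT A) P M) (isIso_singleTot (modT A) P M))
      fun {M M'} f => singleTot_natural (modT A) P f).symm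
  exact ⟨Functor.isoWhiskerRight (DerivedCategory.singleFunctorIsoCompQ (ModuleCat.{u} A) 0) _ ≪≫
    Functor.associator _ _ _ ≪≫
    Functor.isoWhiskerLeft _ ((Functor.associator _ _ _).symm ≪≫
      Functor.isoWhiskerRight (Functor.isoWhiskerLeft DerivedCategory.Q
        ((asIso (DTen.toLTensorCx A K)).symm ≪≫ (DTen.LTen A).flip.mapIso eP.symm) ≪≫
        asIso (DTen.εRight A P)) _ ≪≫ Functor.associator _ _ _ ≪≫
      Functor.isoWhiskerLeft _ (DerivedCategory.homologyFunctorFactors (ModuleCat.{u} A) p)) ≪≫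
    (Functor.associator _ _ _).symm ≪≫ Functor.isoWhiskerRight sT _⟩

end Ring

variable {X : Scheme.{u}}

/-- `M ↦ H^p(M ⊗^L F)` keeps monomorphisms at the point `x`. -/
def MonoAt (F : CochainComplex X.Modules ℤ) [DCoh.HasLTensorCx F] (p : ℤ) (x : X) : Prop :=
  ∀ {M M' : X.Modules} (f : M ⟶ M'), Mono f → Mono ((DerSch.stalkFunctor X x).map ((HpExact.G F p).map f))

/-- The stalk of the pullback along an open immersion detects monomorphisms. -/
theorem mono_S_iff {W : Scheme.{u}} (k : W ⟶ X) [IsOpenImmersion k] (w : W) {M M' : X.Modules} (g : M ⟶ M') :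
    Mono ((S k w).map g) ↔ Mono ((DerSch.stalkFunctor X (k.base w)).map g) := by
  let φ := (k.stalkMap w).hom
  haveI : (ModuleCat.restrictScalars.{u} φ).IsEquivalence :=
    (ModuleCat.restrictScalarsEquivalenceOfRingEquiv
      (RingEquiv.ofBijective φ (ConcreteCategory.bijective_of_isIso (k.stalkMap w)))).isEquivalence_functor
  haveI : (ModuleCat.extendScalars.{u, u, u} φ).IsEquivalence :=
    (ModuleCat.extendRestrictScalarsAdj.{u, u, u} φ).isEquivalence_left_of_isEquivalence_right
  refine ((MorphismProperty.monomorphisms _).arrow_mk_iso_iff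
    (Arrow.isoOfNatIso (pullbackStalkIso k w) (Arrow.mk g))).trans ?_
  exact ⟨fun h => (ModuleCat.extendScalars.{u, u, u} φ).mono_of_mono_map h,
    fun h => @Functor.map_mono _ _ _ _ (ModuleCat.extendScalars.{u, u, u} φ) _ _ _ _ h⟩

/-- A bounded above K-flat representative with flat terms. -/
theorem exists_rep (F : CochainComplex X.Modules ℤ) (e : ℤ) [(DCoh.toD X F).IsLE e] :
    ∃ N : CochainComplex X.Modules ℤ, IsKFlatFor (shT X) N ∧ (∀ n, FlatMod.IsFlat (N.X n)) ∧
      Nonempty (DerivedCategory.Q.obj N ≅ DerivedCategory.Q.obj F) := by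
  obtain ⟨L, hL, ⟨eL⟩⟩ := DerivedCategory.exists_iso_Q_obj_of_isLE (DCoh.toD X F) e
  obtain ⟨N, q, hN, hNf, hq, -⟩ := exists_kflat_sheaf_le L e fun n hn => L.isZero_of_isStrictlyLE e n hn
  exact ⟨N, hN, hNf, ⟨asIso (DerivedCategory.Q.map q) ≪≫ eL.symm⟩⟩

/-- The ring functor at `x`, computed on a representative. -/
theorem nonempty_stalkG (F : CochainComplex X.Modules ℤ) (x : X)
    [DRing.HasLTensorCx (X.presheaf.stalk x) (((DerSch.stalkFunctor X x).mapHomologicalComplex (ComplexShape.up ℤ)).obj F)]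
    {N : CochainComplex X.Modules ℤ} (hN : IsKFlatFor (shT X) N)
    (e : DerivedCategory.Q.obj N ≅ DerivedCategory.Q.obj F) (p : ℤ) :
    Nonempty (DerivedCategory.singleFunctor (ModuleCat.{u} (X.presheaf.stalk x)) 0 ⋙
      DRing.LTensorCx (X.presheaf.stalk x) (((DerSch.stalkFunctor X x).mapHomologicalComplex (ComplexShape.up ℤ)).obj F) ⋙
        DerivedCategory.homologyFunctor (ModuleCat.{u} (X.presheaf.stalk x)) p ≅
      TH (((DerSch.stalkFunctor X x).mapHomologicalComplex (ComplexShape.up ℤ)).obj N) p) := by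
  let st := DerSch.stalkFunctor X x
  haveI : PreservesFiniteColimits st := by
    haveI := (stalkAdj x).leftAdjoint_preservesColimits (F := st)
    infer_instance
  exact nonempty_ringG _ _ ((isKFlatFor_iff_stalks N).1 hN x)
    ((st.mapDerivedCategoryFactors.app N).symm ≪≫ st.mapDerivedCategory.mapIso e ≪≫ st.mapDerivedCategoryFactors.app F) p

/-- `MonoAt` from the complex of stalks of a representative. -/
theorem monoAt_of_TH (F : CochainComplex X.Modules ℤ) [DCoh.HasLTensorCx F] (p : ℤ) (x : X)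
    {N : CochainComplex X.Modules ℤ} (hN : IsKFlatFor (shT X) N)
    (e : DerivedCategory.Q.obj N ≅ DerivedCategory.Q.obj F)
    (h : ∀ {m m' : ModuleCat.{u} (X.presheaf.stalk x)} (f : m ⟶ m'), Mono f →
      Mono ((TH (((DerSch.stalkFunctor X x).mapHomologicalComplex (ComplexShape.up ℤ)).obj N) p).map f)) :
    MonoAt F p x := by
  intro M M' f hf
  obtain ⟨t⟩ := nonempty_G_S (𝟙 X) x F hN e p
  let st := DerSch.stalkFunctor X x
  let s : S (𝟙 X) x ≅ st := Functor.isoWhiskerRight (Scheme.Modules.pullbackId X) st ≪≫ st.leftUnitor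
  let C := (SK (𝟙 X) x).obj N
  let eC : C ≅ ((DerSch.stalkFunctor X x).mapHomologicalComplex (ComplexShape.up ℤ)).obj N :=
    (NatIso.mapHomologicalComplex s (ComplexShape.up ℤ)).app N
  let τ : TH C p ≅ TH (((DerSch.stalkFunctor X x).mapHomologicalComplex (ComplexShape.up ℤ)).obj N) p :=
    Functor.isoWhiskerRight (NatIso.ofComponents
      (fun m => (((modT (X.presheaf.stalk x)).obj m).mapHomologicalComplex (ComplexShape.up ℤ)).mapIso eC)
      fun {m m'} g => (tenLMap eC.hom).naturality g) _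
  haveI : Mono ((S (𝟙 X) x).map f) := by
    haveI := hf
    infer_instance
  have h₁ : Mono ((S (𝟙 X) x).map ((HpExact.G F p).map f)) :=
    ((MorphismProperty.monomorphisms _).arrow_mk_iso_iff (Arrow.isoOfNatIso t (Arrow.mk f))).2
      (((MorphismProperty.monomorphisms _).arrow_mk_iso_iff
        (Arrow.isoOfNatIso τ (Arrow.mk ((S (𝟙 X) x).map f)))).2 (h _ ‹_›))
  exact ((MorphismProperty.monomorphisms _).arrow_mk_iso_iff
    (Arrow.isoOfNatIso s (Arrow.mk ((HpExact.G F p).map f)))).1 h₁

variable {R : CommRingCat.{u}}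

/-- `MonoAt` makes the cokernel of an approximation flat at the point. -/
theorem flat_of_monoAt (F : CochainComplex X.Modules ℤ) (e : ℤ) [(DCoh.toD X F).IsLE e] [DCoh.HasLTensorCx F]
    (p : ℤ) [PreservesFiniteLimits (tilde.functor R)] (k : Spec R ⟶ X) [IsOpenImmersion k] {P : DRing.Cx R} {a b : ℤ}
    (hP : DRing.VanishesOutside P a b) (hp : DRing.TermwiseFiniteProjective P)
    (α : (DCoh.tildeD R).obj (DRing.toD P) ⟶ (PerfLocal.rd k).obj (DCoh.toD X F))
    (hα : PullPerf.Apx (p - 1) α) (y : Spec R) (h : MonoAt F p (k.base y)) :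
    letI := (stalkφ y).toAlgebra
    Module.Flat ((Spec R).presheaf.stalk y)
      ((Spec R).presheaf.stalk y ⊗[R] (P.X p ⧸ LinearMap.range (P.d (p - 1) p).hom)) := by
  obtain ⟨t⟩ := HpExact.nonempty_chart F e p k y hP hp α hα
  obtain ⟨c⟩ := HpExact.nonempty_test_S k y
  let T := ModuleCat.restrictScalars (stalkφ y) ⋙ tilde.functor R ⋙ Scheme.Modules.pushforward k
  let C := ((ModuleCat.extendScalars (stalkφ y)).mapHomologicalComplex (ComplexShape.up ℤ)).obj P
  let u : T ⋙ HpExact.G F p ⋙ S k y ≅ TH C p :=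
    Functor.isoWhiskerLeft T t ≪≫ (Functor.associator _ _ _).symm ≪≫ Functor.isoWhiskerRight c _ ≪≫
      Functor.leftUnitor _
  haveI := fun i => (hp i).2
  haveI := HpExact.flat_ext (stalkφ y) P (p + 1)
  haveI : PreservesFiniteLimits T := by
    haveI := (Scheme.Modules.pullbackPushforwardAdjunction k).rightAdjoint_preservesLimits
      (G := Scheme.Modules.pushforward k)
    infer_instance
  refine (HpExact.flat_coker_ext_iff (stalkφ y) P (p - 1) p).1 (flat_of_mono C p fun f hf => ?_)
  haveI := hf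
  exact ((MorphismProperty.monomorphisms _).arrow_mk_iso_iff (Arrow.isoOfNatIso u (Arrow.mk f))).1
    ((mono_S_iff k y _).2 (h (T.map f) inferInstance))

/-- A flat cokernel of an approximation at a point gives `MonoAt`. -/
theorem monoAt_of_flat (F : CochainComplex X.Modules ℤ) (e : ℤ) [(DCoh.toD X F).IsLE e] [DCoh.HasLTensorCx F]
    (p : ℤ) [PreservesFiniteLimits (tilde.functor R)] (k : Spec R ⟶ X) [IsOpenImmersion k] {P : DRing.Cx R} {a b : ℤ}
    (hP : DRing.VanishesOutside P a b) (hp : DRing.TermwiseFiniteProjective P)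
    (α : (DCoh.tildeD R).obj (DRing.toD P) ⟶ (PerfLocal.rd k).obj (DCoh.toD X F))
    (hα : PullPerf.Apx (p - 1) α) (y : Spec R)
    (hW : letI := (stalkφ y).toAlgebra
      Module.Flat ((Spec R).presheaf.stalk y)
        ((Spec R).presheaf.stalk y ⊗[R] (P.X p ⧸ LinearMap.range (P.d (p - 1) p).hom))) :
    MonoAt F p (k.base y) := by
  intro M M' f hf
  obtain ⟨t⟩ := HpExact.nonempty_chart F e p k y hP hp α hα
  let C := ((ModuleCat.extendScalars (stalkφ y)).mapHomologicalComplex (ComplexShape.up ℤ)).obj P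
  haveI : Module.Flat ((Spec R).presheaf.stalk y) (C.X p ⧸ LinearMap.range (C.d (p - 1) p).hom) :=
    (HpExact.flat_coker_ext_iff (stalkφ y) P (p - 1) p).2 hW
  haveI := hf
  haveI : Mono (homologyMap ((tenL C).map ((S k y).map f)) p) := HpConv.mono_of_flat C p _
  exact (mono_S_iff k y _).1
    (((MorphismProperty.monomorphisms _).arrow_mk_iso_iff (Arrow.isoOfNatIso t (Arrow.mk f))).2 this)

/-- `MonoAt` is an open condition. -/
theorem exists_open_monoAt (F : CochainComplex X.Modules ℤ) (e : ℤ) [(DCoh.toD X F).IsLE e] [DCoh.HasLTensorCx F]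
    (p : ℤ) (hE : DCoh.IsPseudoCoherentD (p - 1) (DCoh.toD X F)) (x : X) (h : MonoAt F p x) :
    ∃ U : X.Opens, x ∈ U ∧ ∀ z ∈ U, MonoAt F p z := by
  obtain ⟨R, hR, k, hk, N, α, ⟨y, rfl⟩, ⟨P, a, b, hP, hp, ⟨eP⟩⟩, hα⟩ := DQCoh.exists_affine_approx hE x
  let α₀ := (DCoh.tildeD R).map eP.hom ≫ α
  have hα₀ : PullPerf.Apx (p - 1) α₀ := (PullPerf.apx_of_isIso _ _).comp hα
  haveI := fun i => (hp i).1
  haveI := fun i => (hp i).2
  haveI := Module.finitePresentation_of_projective R (P.X p)
  let W := P.X p ⧸ LinearMap.range (P.d (p - 1) p).hom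
  haveI : Module.FinitePresentation R W :=
    Module.finitePresentation_of_surjective _ (Submodule.mkQ_surjective _)
      (by rw [Submodule.ker_mkQ, LinearMap.range_eq_map]; exact (Module.Finite.fg_top).map _)
  have hmem : ∀ z : Spec R, (z : PrimeSpectrum R) ∈ Module.freeLocus R W ↔
      (letI := (stalkφ z).toAlgebra; Module.Flat ((Spec R).presheaf.stalk z) ((Spec R).presheaf.stalk z ⊗[R] W)) := fun z => by
    letI := (stalkφ z).toAlgebra
    haveI := HpExact.isLocalization_stalkφ z
    rw [Module.mem_freeLocus_iff_tensor (R := R) (M := W) z ((Spec R).presheaf.stalk z)]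
    exact ⟨fun _ => inferInstance, fun _ => Module.free_of_flat_of_isLocalRing⟩
  let V : Set (Spec R) := Module.freeLocus R W
  have hV : IsOpen V := Module.isOpen_freeLocus
  refine ⟨⟨k.base '' V, k.isOpenEmbedding.isOpenMap _ hV⟩,
    ⟨y, (hmem y).2 (flat_of_monoAt F e p k hP hp α₀ hα₀ y h), rfl⟩, ?_⟩
  rintro _ ⟨z, hz, rfl⟩
  exact monoAt_of_flat F e p k hP hp α₀ hα₀ z ((hmem z).1 hz)

/-- Middle exactness. -/
theorem exact_G (F : CochainComplex X.Modules ℤ) [DCoh.HasLTensorCx F] (p : ℤ) (S₀ : ShortComplex X.Modules)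
    (hS : S₀.ShortExact) : haveI := HpConv.additive_G F p; (S₀.map (HpExact.G F p)).Exact := by
  obtain ⟨δ, hδ⟩ := TenLocal.triExact_LTensor F _ hS.singleTriangle_distinguished
  exact DerivedCategory.HomologySequence.exact₂ _ hδ p

/-- Preservation of monomorphisms by `H^{p+1}` gives preservation of epimorphisms by `H^p`. -/
theorem epi_G (F : CochainComplex X.Modules ℤ) [DCoh.HasLTensorCx F] (p : ℤ) (S₀ : ShortComplex X.Modules)
    (hS : S₀.ShortExact) (h : Mono ((HpExact.G F (p + 1)).map S₀.f)) : Epi ((HpExact.G F p).map S₀.g) := by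
  obtain ⟨δ, hδ⟩ := TenLocal.triExact_LTensor F _ hS.singleTriangle_distinguished
  haveI : Mono ((DerivedCategory.homologyFunctor X.Modules (p + 1)).map
      ((DCoh.LTensorCx F).map hS.singleTriangle.mor₁)) := h
  exact (DerivedCategory.HomologySequence.exact₃ _ hδ p (p + 1) rfl).epi_f
    ((cancel_mono ((DerivedCategory.homologyFunctor X.Modules (p + 1)).map
      ((DCoh.LTensorCx F).map hS.singleTriangle.mor₁))).1
      (by
        refine Eq.trans ?_ zero_comp.symm
        exact DerivedCategory.HomologySequence.δ_comp _ hδ p (p + 1) rfl))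

/-- `MonoAt` on an open gives preservation of monomorphisms by the functor of the restriction. -/
theorem mono_restrict (F : CochainComplex X.Modules ℤ) (e : ℤ) [(DCoh.toD X F).IsLE e] [DCoh.HasLTensorCx F]
    (p : ℤ) (U : X.Opens) [DCoh.HasLTensorCx ((DCoh.restrictCx U).obj F)] (hU : ∀ z ∈ U, MonoAt F p z)
    {M M' : (U : Scheme.{u}).Modules} (f : M ⟶ M') [Mono f] :
    Mono ((HpExact.G ((DCoh.restrictCx U).obj F) p).map f) := by
  haveI := HpConv.additive_G ((DCoh.restrictCx U).obj F) p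
  obtain ⟨N, hN, -, ⟨eN⟩⟩ := exists_rep F e
  let ι := U.ι
  let N' := ((Scheme.Modules.pullback ι).mapHomologicalComplex (ComplexShape.up ℤ)).obj N
  have hN' : IsKFlatFor (shT (U : Scheme.{u})) N' := PullTot.isKFlatFor_pullback ι hN
  let eN' : DerivedCategory.Q.obj N' ≅ DerivedCategory.Q.obj ((DCoh.restrictCx U).obj F) :=
    (DerivedCategory.Q.mapIso ((NatIso.mapHomologicalComplex (Scheme.Modules.restrictFunctorIsoPullback ι)
      (ComplexShape.up ℤ)).app N)).symm ≪≫ ((Scheme.Modules.restrictFunctor ι).mapDerivedCategoryFactors.app N).symm ≪≫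
      (Scheme.Modules.restrictFunctor ι).mapDerivedCategory.mapIso eN ≪≫
      (Scheme.Modules.restrictFunctor ι).mapDerivedCategoryFactors.app F
  refine Preadditive.mono_of_isZero_kernel _ (ModStalk.isZero_of_stalks fun w => ?_)
  suffices Mono ((DerSch.stalkFunctor (U : Scheme.{u}) w).map ((HpExact.G ((DCoh.restrictCx U).obj F) p).map f)) from
    (isZero_kernel_of_mono ((DerSch.stalkFunctor (U : Scheme.{u}) w).map
      ((HpExact.G ((DCoh.restrictCx U).obj F) p).map f))).of_iso (PreservesKernel.iso _ _)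
  let st := DerSch.stalkFunctor (U : Scheme.{u}) w
  let s : S (𝟙 (U : Scheme.{u})) w ≅ st :=
    Functor.isoWhiskerRight (Scheme.Modules.pullbackId _) st ≪≫ st.leftUnitor
  let κ : Scheme.Modules.pushforward ι ⋙ S ι w ≅ st :=
    (Functor.associator _ _ _).symm ≪≫ Functor.isoWhiskerRight
      (Functor.isoWhiskerLeft (Scheme.Modules.pushforward ι) (Scheme.Modules.restrictFunctorIsoPullback ι).symm ≪≫
        Scheme.Modules.restrictFunctorAdjCounitIso ι) st ≪≫ st.leftUnitor
  let eC : (SK (𝟙 (U : Scheme.{u})) w).obj N' ≅ (SK ι w).obj N :=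
    (NatIso.mapHomologicalComplex s (ComplexShape.up ℤ)).app N'
  let τ : TH ((SK (𝟙 (U : Scheme.{u})) w).obj N') p ≅ TH ((SK ι w).obj N) p :=
    Functor.isoWhiskerRight (NatIso.ofComponents
      (fun m => (((modT ((U : Scheme.{u}).presheaf.stalk w)).obj m).mapHomologicalComplex
        (ComplexShape.up ℤ)).mapIso eC)
      fun {m m'} g => (tenLMap eC.hom).naturality g) _
  obtain ⟨t'⟩ := nonempty_G_S (𝟙 (U : Scheme.{u})) w ((DCoh.restrictCx U).obj F) hN' eN' p
  obtain ⟨t⟩ := nonempty_G_S ι w F hN eN p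
  let Φ : HpExact.G ((DCoh.restrictCx U).obj F) p ⋙ st ≅
      Scheme.Modules.pushforward ι ⋙ HpExact.G F p ⋙ S ι w :=
    Functor.isoWhiskerLeft _ s.symm ≪≫ t' ≪≫ Functor.isoWhiskerRight s _ ≪≫ Functor.isoWhiskerLeft st τ ≪≫
      Functor.isoWhiskerRight κ.symm _ ≪≫ Functor.associator _ _ _ ≪≫
      Functor.isoWhiskerLeft (Scheme.Modules.pushforward ι) t.symm
  haveI : Mono ((Scheme.Modules.pushforward ι).map f) := by
    haveI := (Scheme.Modules.pullbackPushforwardAdjunction ι).rightAdjoint_preservesLimits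
      (G := Scheme.Modules.pushforward ι)
    infer_instance
  exact ((MorphismProperty.monomorphisms _).arrow_mk_iso_iff (Arrow.isoOfNatIso Φ (Arrow.mk f))).2
    ((mono_S_iff ι w _).2 (hU _ w.2 ((Scheme.Modules.pushforward ι).map f) inferInstance))

/-- Left exactness spreads out. -/
theorem exists_left (F : CochainComplex X.Modules ℤ) (e : ℤ) [(DCoh.toD X F).IsLE e] (p : ℤ)
    (hE : DCoh.IsPseudoCoherentD (p - 1) (DCoh.toD X F)) (x : X)
    [∀ U : X.Opens, DCoh.HasLTensorCx ((DCoh.restrictCx U).obj F)]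
    {N : CochainComplex X.Modules ℤ} (hN : IsKFlatFor (shT X) N)
    (eN : DerivedCategory.Q.obj N ≅ DerivedCategory.Q.obj F)
    (h : ∀ {m m' : ModuleCat.{u} (X.presheaf.stalk x)} (f : m ⟶ m'), Mono f →
      Mono ((TH (((DerSch.stalkFunctor X x).mapHomologicalComplex (ComplexShape.up ℤ)).obj N) p).map f)) :
    ∃ U : X.Opens, x ∈ U ∧ ∀ {M M' : (U : Scheme.{u}).Modules} (f : M ⟶ M'), Mono f →
      Mono ((HpExact.G ((DCoh.restrictCx U).obj F) p).map f) := by
  haveI := LTensorSheaf.hasLTensorCx F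
  obtain ⟨U, hx, hU⟩ := exists_open_monoAt F e p hE x (monoAt_of_TH F p x hN eN h)
  exact ⟨U, hx, fun f hf => by haveI := hf; exact mono_restrict F e p U hU f⟩

end Groth.Agent.KSix16.HpLocal
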