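import Groth.Agent.KSix16.RelTensorComp
import Groth.Agent.FlatCx12.TorDimBC
import Groth.Agent.FlatCx12.PushStalk
import Groth.Agent.Desc19b.FlatOverBC
import Groth.Agent.DCat.TorSheaf
import Groth.Agent.DCat.CohDimShift

/-!
# Tor-independent base change of direct images along closed immersions
-/

set_option autoImplicit false
set_option backward.isDefEq.respectTransparency false
set_option backward.defeqAttrib.useBackward true
set_option linter.style.haveILetI false
set_option synthInstance.maxHeartbeats 100000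

universe u

open CategoryTheory CategoryTheory.Limits CategoryTheory.Pretriangulated DerivedCategory AlgebraicGeometry
open Groth.Agent.DCat Groth.Agent.FlatCx12.RelPCChart Groth.Agent.FlatCx12.EmbPush Groth.Agent.ModStalk
open HomologicalComplex

attribute [local instance] HasDerivedCategory.standard
attribute [-instance] Int.instConditionallyCompleteLinearOrder

namespace Groth.Agent.KSix16.IndepBC

theorem flat_prod (R : Type u) [CommRing R] (M N : Type u) [AddCommGroup M] [Module R M] [AddCommGroup N] [Module R N]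
    [Module.Flat R M] [Module.Flat R N] : Module.Flat R (M × N) := by
  rw [Module.Flat.iff_rTensor_preserves_injective_linearMap]
  intro A B _ _ _ _ f hf x y hxy
  let eA := TensorProduct.prodRight R R A M N
  let eB := TensorProduct.prodRight R R B M N
  have hcomm : ∀ z, eB (f.rTensor (M × N) z) = (f.rTensor M (eA z).1, f.rTensor N (eA z).2) := fun z => by
    induction z using TensorProduct.induction_on with
    | zero => simp only [map_zero, Prod.fst_zero, Prod.snd_zero]; rfl
    | tmul a m => simp [eA, eB]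
    | add z w hz hw => simp only [map_add, Prod.fst_add, Prod.snd_add, hz, hw]; rfl
  have h := congrArg eB hxy
  rw [hcomm, hcomm, Prod.mk.injEq] at h
  exact eA.injective (Prod.ext (Module.Flat.rTensor_preserves_injective_linearMap f hf h.1)
    (Module.Flat.rTensor_preserves_injective_linearMap f hf h.2))

/-- An exact bounded above complex with terms flat over the base stays exact after tensoring with a ring flat over
the base change. -/
theorem exactAt_extendScalars (R C : Type u) [CommRing R] [CommRing C] {P T O : Type u} [CommRing P] [CommRing T]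
    [CommRing O] [Algebra R C] [Algebra R P] [Algebra C T] [Algebra P T] [Algebra R T] [IsScalarTower R C T]
    [IsScalarTower R P T] [Algebra.IsPushout R C P T] [Algebra T O] [Module.Flat T O] (φ : P →+* O)
    (hφ : ∀ r, φ r = algebraMap T O (algebraMap P T r)) (K : CochainComplex (ModuleCat.{u} P) ℤ) (b : ℤ)
    (hb : ∀ n, b < n → IsZero (K.X n))
    (hflat : ∀ n, Module.Flat R ((ModuleCat.restrictScalars.{u} (algebraMap R P)).obj (K.X n)))
    (hK : ∀ n, K.ExactAt n) (n : ℤ) :
    (((ModuleCat.extendScalars.{u, u, u} φ).mapHomologicalComplex (ComplexShape.up ℤ)).obj K).ExactAt n := by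
  letI := φ.toAlgebra
  haveI : IsScalarTower P T O := .of_algebraMap_eq hφ
  letI : ∀ i, Module R (K.X i) := fun i => Module.compHom (K.X i) (algebraMap R P)
  haveI : ∀ i, IsScalarTower R P (K.X i) := fun i => IsScalarTower.of_algebraMap_smul fun _ _ => rfl
  haveI : ∀ i, Module.Flat R (K.X i) := fun i => hflat i
  let d : ∀ i j, K.X i →ₗ[P] K.X j := fun i j => (K.d i j).hom
  have hex : ∀ i j k : ℤ, i + 1 = j → j + 1 = k → Function.Exact (d i j) (d j k) := by
    intro i j k hij hjk
    have h := (K.exactAt_iff' i j k (by simp; omega) (by simp; omega)).1 (hK j)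
    exact (ShortComplex.ShortExact.moduleCat_exact_iff_function_exact _).1 h
  have hdd : ∀ i j k : ℤ, ∀ x, d j k (d i j x) = 0 := fun i j k x => by
    have h := congrArg (fun f : K.X i ⟶ K.X k => f.hom x) (K.d_comp_d i j k)
    exact h
  -- flatness of cycles
  have hcyc : ∀ (m : ℕ) (i j : ℤ), i + 1 = j → b + 1 - m ≤ i → Module.Flat R (LinearMap.ker (d i j)) := by
    intro m
    induction m with
    | zero =>
      intro i j _ hi
      haveI := ModuleCat.subsingleton_of_isZero (hb i (by omega))
      haveI : Subsingleton (LinearMap.ker (d i j)) := inferInstance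
      infer_instance
    | succ m ih =>
      intro i j hij hi
      haveI := ih j (j + 1) rfl (by push_cast at hi; omega)
      let q : K.X i →ₗ[P] LinearMap.ker (d j (j + 1)) := (d i j).codRestrict _ fun x => hdd i j (j + 1) x
      refine FlatCx12.TorDimBC.flat_kernel ((LinearMap.ker (d i j)).subtype.restrictScalars R) (q.restrictScalars R)
        (fun x => ⟨fun hx => ?_, ?_⟩) (fun y => ?_) Subtype.val_injective
      · exact ⟨⟨x, congrArg Subtype.val hx⟩, rfl⟩
      · rintro ⟨z, rfl⟩
        exact Subtype.ext z.2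
      · obtain ⟨x, hx⟩ := (hex i j (j + 1) hij rfl y.1).1 y.2
        exact ⟨x, Subtype.ext hx⟩
  have hflatZ : ∀ i j : ℤ, i + 1 = j → Module.Flat R (LinearMap.ker (d i j)) := fun i j hij =>
    hcyc (b + 1 - i).toNat i j hij (by omega)
  obtain ⟨h, hh⟩ : ∃ h : ℤ, h = n - 1 := ⟨_, rfl⟩
  rw [HomologicalComplex.exactAt_iff' _ h n (n + 1) (by simp; omega) (by simp),
    ShortComplex.ShortExact.moduleCat_exact_iff_function_exact]
  show Function.Exact ((d h n).lTensor O) ((d n (n + 1)).lTensor O)
  let q : K.X n →ₗ[P] LinearMap.ker (d (n + 1) (n + 2)) :=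
    (d n (n + 1)).codRestrict _ fun x => hdd n (n + 1) (n + 2) x
  have hq : Function.Surjective q := fun y => by
    obtain ⟨x, hx⟩ := (hex n (n + 1) (n + 2) rfl (by omega) y.1).1 y.2
    exact ⟨x, Subtype.ext hx⟩
  have hdq : Function.Exact (d h n) q := fun x => by
    rw [← hex h n (n + 1) (by omega) rfl x]
    exact ⟨fun hx => congrArg Subtype.val hx, fun hx => Subtype.ext hx⟩
  have h1 : Function.Exact ((d h n).lTensor O) (q.lTensor O) := lTensor_exact O hdq hq
  let q' : K.X (n + 1) →ₗ[P] LinearMap.ker (d (n + 2) (n + 3)) :=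
    (d (n + 1) (n + 2)).codRestrict _ fun x => hdd (n + 1) (n + 2) (n + 3) x
  have hq' : Function.Surjective q' := fun y => by
    obtain ⟨x, hx⟩ := (hex (n + 1) (n + 2) (n + 3) (by omega) (by omega) y.1).1 y.2
    exact ⟨x, Subtype.ext hx⟩
  haveI := hflatZ (n + 2) (n + 3) (by omega)
  have hker : Function.Exact (LinearMap.ker (d (n + 1) (n + 2))).subtype q' := fun x =>
    ⟨fun hx => ⟨⟨x, congrArg Subtype.val hx⟩, rfl⟩, by rintro ⟨z, rfl⟩; exact Subtype.ext z.2⟩
  have h2 : Function.Injective ((LinearMap.ker (d (n + 1) (n + 2))).subtype.lTensor O) :=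
    FlatCx12.TorDimBC.injective_lTensor R C P T O (LinearMap.ker (d (n + 1) (n + 2))).subtype q' hker hq'
      Subtype.val_injective
  have hd : (d n (n + 1)).lTensor O =
      ((LinearMap.ker (d (n + 1) (n + 2))).subtype.lTensor O).comp (q.lTensor O) := by
    rw [← LinearMap.lTensor_comp]; rfl
  intro x
  rw [hd, LinearMap.comp_apply, map_eq_zero_iff _ h2]
  exact h1 x

variable {S S' X P U' P' : Scheme.{u}}

/-- Pullback along a base change keeps bounded above complexes with terms flat over the base exact. -/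
theorem exactAt_pullback_base {q : P ⟶ S} {q' : P' ⟶ S'} {h : P' ⟶ P} {t : S' ⟶ S} (hT : IsPullback h q' q t)
    (K : CochainComplex P.Modules ℤ) (b : ℤ) (hb : ∀ n, b < n → IsZero (K.X n))
    (hflat : ∀ (n : ℤ) (z : P), Module.Flat (S.presheaf.stalk (q z)) ((DerSch.stalkOver q z).obj (K.X n)))
    (hK : ∀ n, K.ExactAt n) (n : ℤ) :
    (((Scheme.Modules.pullback h).mapHomologicalComplex (ComplexShape.up ℤ)).obj K).ExactAt n := by
  refine DCat.exactAt_iff_stalks.1 fun x' => ?_
  have hpt : t (q' x') = q (h x') := by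
    show (q' ≫ t) x' = (h ≫ q) x'
    rw [hT.w]
  let α : S.presheaf.stalk (q (h x')) ⟶ P.presheaf.stalk (h x') := q.stalkMap (h x')
  let β : S.presheaf.stalk (q (h x')) ⟶ S'.presheaf.stalk (q' x') :=
    S.presheaf.stalkSpecializes (specializes_of_eq hpt) ≫ t.stalkMap (q' x')
  have ha : Spec.map α ≫ S.fromSpecStalk (q (h x')) = P.fromSpecStalk (h x') ≫ q :=
    Scheme.SpecMap_stalkMap_fromSpecStalk q
  have hb' : Spec.map β ≫ S.fromSpecStalk (q (h x')) = S'.fromSpecStalk (q' x') ≫ t := by
    simp only [β, Spec.map_comp, Category.assoc, Scheme.SpecMap_stalkSpecializes_fromSpecStalk,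
      Scheme.SpecMap_stalkMap_fromSpecStalk]
  have w : α ≫ h.stalkMap x' = β ≫ q'.stalkMap x' := by
    apply Spec.map_injective
    rw [← cancel_mono (S.fromSpecStalk (q (h x'))), Spec.map_comp α, Spec.map_comp β, Category.assoc,
      Category.assoc, ha, hb', ← Category.assoc, ← Category.assoc, Scheme.SpecMap_stalkMap_fromSpecStalk,
      Scheme.SpecMap_stalkMap_fromSpecStalk, Category.assoc, Category.assoc, hT.w]
  let θ := pushout.desc (h.stalkMap x') (q'.stalkMap x') w
  have hθ : θ.hom.Flat := Desc19b.exists_flat_stalk_tensor q q' h t hT x' α β w _ ha hb'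
  letI : Algebra (S.presheaf.stalk (q (h x'))) (P.presheaf.stalk (h x')) := α.hom.toAlgebra
  letI : Algebra (S.presheaf.stalk (q (h x'))) (S'.presheaf.stalk (q' x')) := β.hom.toAlgebra
  letI : Algebra (S'.presheaf.stalk (q' x')) ↑(pushout α β) := (pushout.inr α β).hom.toAlgebra
  letI : Algebra (P.presheaf.stalk (h x')) ↑(pushout α β) := (pushout.inl α β).hom.toAlgebra
  letI : Algebra (S.presheaf.stalk (q (h x'))) ↑(pushout α β) := (α ≫ pushout.inl α β).hom.toAlgebra
  haveI : IsScalarTower (S.presheaf.stalk (q (h x'))) (P.presheaf.stalk (h x')) ↑(pushout α β) :=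
    .of_algebraMap_eq fun _ => rfl
  haveI : IsScalarTower (S.presheaf.stalk (q (h x'))) (S'.presheaf.stalk (q' x')) ↑(pushout α β) :=
    .of_algebraMap_eq fun r => RingHom.congr_fun (congrArg CommRingCat.Hom.hom (pushout.condition (f := α) (g := β))) r
  haveI : Algebra.IsPushout (S.presheaf.stalk (q (h x'))) (S'.presheaf.stalk (q' x'))
      (P.presheaf.stalk (h x')) ↑(pushout α β) :=
    CommRingCat.isPushout_iff_isPushout.1 (IsPushout.of_hasPushout α β).flip
  letI : Algebra ↑(pushout α β) (P'.presheaf.stalk x') := θ.hom.toAlgebra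
  haveI : Module.Flat ↑(pushout α β) (P'.presheaf.stalk x') := hθ
  let K₀ := ((DerSch.stalkFunctor P (h x')).mapHomologicalComplex (ComplexShape.up ℤ)).obj K
  have key := exactAt_extendScalars (S.presheaf.stalk (q (h x'))) (S'.presheaf.stalk (q' x'))
    (T := ↑(pushout α β)) (h.stalkMap x').hom
    (fun r => (RingHom.congr_fun (congrArg CommRingCat.Hom.hom (pushout.inl_desc _ _ w)) r).symm) K₀ b
    (fun i hi => (DerSch.stalkFunctor P (h x')).map_isZero (hb i hi)) (fun i => hflat i _)
    (fun i => (hK i).map (DerSch.stalkFunctor P (h x'))) n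
  let e := pullbackStalkIso h x'
  refine HomologicalComplex.ExactAt.of_iso key (Hom.isoOfComponents (fun i => (e.app (K.X i)).symm)
    (fun i j _ => (e.inv.naturality (K.d i j)).symm))

/-- Direct images along closed immersions of flat modules are flat over the base. -/
theorem flat_push_stalk (i : X ⟶ P) [IsClosedImmersion i] (q : P ⟶ S) [Flat (i ≫ q)] (M : X.Modules)
    (hM : FlatMod.IsFlat M) (z : P) :
    Module.Flat (S.presheaf.stalk (q z)) ((DerSch.stalkOver q z).obj ((Scheme.Modules.pushforward i).obj M)) := by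
  by_cases hz : z ∈ Set.range i.base
  · obtain ⟨x, rfl⟩ := hz
    obtain ⟨e⟩ := FlatCx12.PushStalk.nonempty_stalkOverPushIso i q x
    haveI : Module.Flat (X.presheaf.stalk x) ((DerSch.stalkFunctor X x).obj M) := hM x
    have hfl := FlatCx12.PushStalk.flat_restrict _ (Flat.stalkMap (i ≫ q) x) ((DerSch.stalkFunctor X x).obj M)
    exact (Module.Flat.equiv_iff (e.app M).toLinearEquiv).2 hfl
  · haveI : Subsingleton ((DerSch.stalkOver q z).obj ((Scheme.Modules.pushforward i).obj M)) :=
      ClosedPush.subsingleton_stalk_push i M z hz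
    infer_instance

/-- `Lh^* i_* ≅ i'_* Lg^*` for bounded above objects, for a base change of closed immersions of flat schemes. -/
theorem nonempty_Lpull_pd_indep {i : X ⟶ P} {h : P' ⟶ P} {i' : U' ⟶ P'} {g : U' ⟶ X} {q : P ⟶ S} {q' : P' ⟶ S'}
    {t : S' ⟶ S} (hT : IsPullback h q' q t) (hc : IsPullback g i' i h)
    [IsClosedImmersion i] [IsClosedImmersion i'] [Flat q] [Flat (i ≫ q)] [DCoh.HasLpull h] [DCoh.HasLpull g]
    [PreservesFiniteColimits (Scheme.Modules.pushforward i)] [PreservesFiniteColimits (Scheme.Modules.pushforward i')]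
    (A : DCoh.D X) (b : ℤ) (hA : A.IsLE b) :
    Nonempty ((DCoh.Lpull h).obj ((pd i).obj A) ≅ (pd i').obj ((DCoh.Lpull g).obj A)) := by
  haveI := hA
  obtain ⟨A₀, hA₀, ⟨eA⟩⟩ := A.exists_iso_Q_obj_of_isLE b
  obtain ⟨N, r, hNk, hNf, hr, hNb⟩ := exists_kflat_sheaf_le A₀ b fun n hn => A₀.isZero_of_isStrictlyLE b n hn
  haveI := hr
  let pi := Scheme.Modules.pushforward i
  let pi' := Scheme.Modules.pushforward i'
  let ph := Scheme.Modules.pullback h
  let pg := Scheme.Modules.pullback g
  let M₀ := (pi.mapHomologicalComplex (ComplexShape.up ℤ)).obj N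
  obtain ⟨M, c, hMk, hMf, hcq, hMb⟩ := exists_kflat_sheaf_le M₀ b fun n hn => pi.map_isZero (hNb n hn)
  haveI := hcq
  let C := CochainComplex.mappingCone c
  haveI : IsIso (DerivedCategory.Q.map c) :=
    Localization.inverts DerivedCategory.Q (HomologicalComplex.quasiIso P.Modules (ComplexShape.up ℤ)) c
      ((HomologicalComplex.mem_quasiIso_iff _).2 ‹_›)
  have hC : ∀ n, C.ExactAt n := fun n => by
    have hz : IsZero (DerivedCategory.Q.obj C) :=
      (Triangle.isZero₃_iff_isIso₁ _ (DerivedCategory.mappingCone_triangle_distinguished c)).2 ‹_›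
    rw [HomologicalComplex.exactAt_iff_isZero_homology]
    exact ((DerivedCategory.homologyFunctor P.Modules n).map_isZero hz).of_iso
      ((DerivedCategory.homologyFunctorFactors P.Modules n).app C).symm
  have hCb : ∀ n, b < n → IsZero (C.X n) := fun n hn => by
    refine (IsZero.iff_id_eq_zero _).2 ?_
    show 𝟙 ((CochainComplex.mappingCone c).X n) = 0
    rw [← CochainComplex.mappingCone.id_X c n (n + 1) rfl]
    rw [(hMb (n + 1) (by omega)).eq_of_src ((CochainComplex.mappingCone.inl c).v (n + 1) n (by omega)) 0,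
      (pi.map_isZero (hNb n hn) : IsZero (M₀.X n)).eq_of_src ((CochainComplex.mappingCone.inr c).f n) 0]
    simp
  have hCf : ∀ (n : ℤ) (z : P), Module.Flat (S.presheaf.stalk (q z)) ((DerSch.stalkOver q z).obj (C.X n)) := by
    intro n z
    have hfM₀ : Module.Flat (S.presheaf.stalk (q z)) ((DerSch.stalkOver q z).obj (M₀.X n)) :=
      flat_push_stalk i q (N.X n) (hNf n) z
    have hfM : Module.Flat (S.presheaf.stalk (q z)) ((DerSch.stalkOver q z).obj (M.X (n + 1))) := by
      haveI : Module.Flat (P.presheaf.stalk z) ((DerSch.stalkFunctor P z).obj (M.X (n + 1))) := hMf (n + 1) z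
      exact FlatCx12.PushStalk.flat_restrict _ (Flat.stalkMap q z) _
    haveI : PreservesBinaryBiproduct (M.X (n + 1)) (M₀.X n) (DerSch.stalkOver q z) :=
      preservesBinaryBiproduct_of_preservesBiproduct _ _ _
    have hp : Module.Flat (S.presheaf.stalk (q z))
        (((DerSch.stalkOver q z).obj (M.X (n + 1))) × ((DerSch.stalkOver q z).obj (M₀.X n))) := @flat_prod _ _ _ _ _ _ _ _ hfM hfM₀
    exact (Module.Flat.equiv_iff ((DerSch.stalkOver q z).mapIso
      (HomologicalComplex.homotopyCofiber.XIsoBiprod c n (n + 1) rfl) ≪≫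
      (DerSch.stalkOver q z).mapBiprod _ _ ≪≫ ModuleCat.biprodIsoProd _ _).toLinearEquiv).2 hp
  let c' := (ph.mapHomologicalComplex (ComplexShape.up ℤ)).map c
  have hc'' : IsIso (DerivedCategory.Q.map c') := by
    refine (Triangle.isZero₃_iff_isIso₁ _ (DerivedCategory.mappingCone_triangle_distinguished c')).1 ?_
    refine IsZero.of_iso ?_ (DerivedCategory.Q.mapIso (CochainComplex.mappingCone.mapHomologicalComplexIso c ph).symm)
    haveI : DerivedCategory.Q.obj ((ph.mapHomologicalComplex (ComplexShape.up ℤ)).obj C) |>.IsLE b := by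
      haveI : CochainComplex.IsStrictlyLE ((ph.mapHomologicalComplex (ComplexShape.up ℤ)).obj C) b :=
        (CochainComplex.isStrictlyLE_iff _ _).2 fun k hk => ph.map_isZero (hCb k hk)
      infer_instance
    exact CohDimShift.isZero_Q_of_acyclic _ fun n => exactAt_pullback_base hT C b hCb hCf hC n
  obtain ⟨τ⟩ := FlatCx12.ClosedBC.nonempty_pullback_push hc
  let e₃ : (ph.mapHomologicalComplex (ComplexShape.up ℤ)).obj M₀ ≅
      (pi'.mapHomologicalComplex (ComplexShape.up ℤ)).obj ((pg.mapHomologicalComplex (ComplexShape.up ℤ)).obj N) :=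
    Hom.isoOfComponents (fun n => τ.app (N.X n)) (fun a b _ => (τ.hom.naturality (N.d a b)).symm)
  let eN : DerivedCategory.Q.obj N ≅ A := asIso (DerivedCategory.Q.map r) ≪≫ eA.symm
  haveI := hc''
  exact ⟨(DCoh.Lpull h).mapIso ((pd i).mapIso eN.symm ≪≫ pi.mapDerivedCategoryFactors.app N ≪≫
      (asIso (DerivedCategory.Q.map c)).symm) ≪≫ PullPerf.lpullIso h hMk ≪≫ asIso (DerivedCategory.Q.map c') ≪≫
    DerivedCategory.Q.mapIso e₃ ≪≫ (pi'.mapDerivedCategoryFactors.app _).symm ≪≫
    (pd i').mapIso ((PullPerf.lpullIso g hNk).symm ≪≫ (DCoh.Lpull g).mapIso eN)⟩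

end Groth.Agent.KSix16.IndepBC
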