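import Groth.Agent.Dual22Lib.RelPerfPush
import Groth.Agent.Dual22Lib.SupportAdj
import Groth.Agent.S6202
import Groth.Agent.S6236
import Groth.Agent.FlatCx12.RelPCFlatBCScheme
import Groth.Agent.Coherent.FinitePres
import Groth.Agent.Coherent.FinMor

/-!
# Direct images of relatively pseudo-coherent objects, locally Noetherian base
-/

set_option autoImplicit false
set_option backward.isDefEq.respectTransparency false
set_option linter.style.haveILetI false
set_option synthInstance.maxHeartbeats 100000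

universe u

open CategoryTheory CategoryTheory.Limits DerivedCategory AlgebraicGeometry
open Groth.Agent.DCat Groth.Agent.FlatCx12.RelPCOps

attribute [local instance] HasDerivedCategory.standard
attribute [-instance] Int.instConditionallyCompleteLinearOrder

namespace Groth.Agent.KSix16

variable {X Y S : Scheme.{u}}

/-- Coherent cohomology, locally bounded above, gives relative pseudo-coherence. -/
theorem rel_of_isCohD [IsLocallyNoetherian S] (q : Y ⟶ S) [LocallyOfFiniteType q] (E : DCoh.D Y)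
    (hE : DCoh.IsCohD E)
    (hb : ∀ U : Y.Opens, IsAffineOpen U → ∃ b : ℤ, ((PerfLocal.rd U.ι).obj E).IsLE b) :
    DerSch.IsPseudoCoherentRelAll q E := by
  intro m
  rw [rel_iff_chart]
  intro c
  haveI : IsNoetherianRing Γ(S, c.V.1) := IsLocallyNoetherian.component_noetherian c.V
  haveI : IsNoetherianRing (CommRingCat.of (MvPolynomial (Fin c.n) Γ(S, c.V.1))) :=
    inferInstanceAs (IsNoetherianRing (MvPolynomial (Fin c.n) Γ(S, c.V.1)))
  have hcoh : ∀ i : ℤ, Coh.IsCoh (DCoh.HD (c.fn.obj E) i) := fun i =>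
    Coherent.isCoh_iso (FlatCx12.RelPCTri.fnHomIso c E i).symm
      (Coherent.isCoh_push_finite c.imm (Coherent.isCoh_restrict _ (hE i)))
  obtain ⟨b, hle⟩ := hb _ c.U.2
  haveI : (c.fn.obj E).IsLE b := (DerivedCategory.isLE_iff _ _).2 fun i hi => by
    haveI := hle
    exact ((Scheme.Modules.pushforward c.imm).map_isZero
      (DerivedCategory.isZero_of_isLE _ b i hi)).of_iso (SuppOpen.hdMapIso (Scheme.Modules.pushforward c.imm) _ i)
  exact DQCoh.psc_of_isCoh _ (fun i => (hcoh i).1) b m fun i _ => hcoh i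

/-- Relatively pseudo-coherent objects are bounded above on quasi-compact opens. -/
theorem exists_isLE_rd (p : X ⟶ S) (E : DCoh.D X) (hE : DerSch.IsPseudoCoherentRelAll p E) (W : X.Opens)
    (hW : IsCompact (W : Set X)) : ∃ b : ℤ, ((PerfLocal.rd W.ι).obj E).IsLE b := by
  haveI : CompactSpace W := isCompact_iff_compactSpace.1 hW
  haveI := (hE 0).1
  let E₀ := DerivedCategory.Q.objPreimage E
  let e : DerivedCategory.Q.obj E₀ ≅ E := DerivedCategory.Q.objObjPreimageIso E
  have h := Groth.Agent.S6202.result p 0 E₀ (FlatCx12.RelPCFlatBC.rel_iso e.symm (hE 0)) W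
  obtain ⟨b, hb⟩ := Groth.Agent.S6236.result (W.ι ≫ p) 0 _ h
  exact ⟨b, @CategoryTheory.Triangulated.TStructure.isLE_of_iso _ _ _ _ _ _ _ DerivedCategory.TStructure.t _ _
    (((Scheme.Modules.restrictFunctor W.ι).mapDerivedCategoryFactors.app E₀).symm ≪≫
      (PerfLocal.rd W.ι).mapIso e) b hb⟩

/-- The direct image along a proper map is relatively pseudo-coherent. -/
theorem rel_Rpush [IsLocallyNoetherian S] (p : X ⟶ S) (q : Y ⟶ S) [LocallyOfFiniteType p] [LocallyOfFiniteType q]
    (f : X ⟶ Y) [IsProper f] [DCoh.HasRpush f] (E : DCoh.D X) (a : ℤ) [E.IsGE a]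
    (hE : DerSch.IsPseudoCoherentRelAll p E) :
    DCoh.IsCohD E ∧ DerSch.IsPseudoCoherentRelAll q ((DCoh.Rpush f).obj E) := by
  haveI : IsLocallyNoetherian X := LocallyOfFiniteType.isLocallyNoetherian p
  haveI : IsLocallyNoetherian Y := LocallyOfFiniteType.isLocallyNoetherian q
  have hcoh := Dual22Lib.RelPerfPush.isCohD_of_rel p E hE
  refine ⟨hcoh, rel_of_isCohD q _ (Dual22Lib.SupportAdj.isCohD_Rpush f E a hcoh) fun U hU => ?_⟩
  haveI : CompactSpace U := isCompact_iff_compactSpace.1 hU.isCompact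
  haveI := hasRpush (f ∣_ U)
  haveI := PullPerf.preservesFiniteLimits_restrict U.ι
  haveI := PullPerf.preservesFiniteLimits_restrict (f ⁻¹ᵁ U).ι
  obtain ⟨b, hb⟩ := exists_isLE_rd p E hE _ (f.isCompact_preimage hU.isCompact)
  obtain ⟨N, hN⟩ := Dual22Lib.SupportAdj.exists_isLE_Rpush (f ∣_ U)
  exact ⟨b + N, @CategoryTheory.Triangulated.TStructure.isLE_of_iso _ _ _ _ _ _ _ DerivedCategory.TStructure.t _ _
    ((OpenDerived.rpushRestrictIso f U).app E).symm (b + N)
    (hN _ b (DQCoh.isQCohD_rd (f ⁻¹ᵁ U).ι fun i => (hcoh i).1) hb)⟩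

end Groth.Agent.KSix16
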