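import Groth.Agent.FlatCx12.RelPCRestrict
import Groth.Agent.FlatCx12.RelPCBound
import Groth.Agent.FlatCx12.RelPCFlatBCScheme
import Groth.Agent.Dual22Lib.TenLocal
import Groth.Agent.DQCoh.RHomQCoh

/-!
# Tensoring a relatively pseudo-coherent object with a pseudo-coherent one
-/

set_option autoImplicit false
set_option backward.isDefEq.respectTransparency false
set_option backward.defeqAttrib.useBackward true
set_option linter.style.haveILetI false
set_option synthInstance.maxHeartbeats 100000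

universe u

open CategoryTheory CategoryTheory.Limits CategoryTheory.Pretriangulated DerivedCategory AlgebraicGeometry
open Groth.Agent.DCat Groth.Agent.FlatCx12.RelPCOps Groth.Agent.FlatCx12.EmbPush
open Groth.Agent.Dual22Lib.WeakExact Groth.Agent.ModStalk
open scoped ZeroObject

attribute [local instance] HasDerivedCategory.standard
attribute [-instance] Int.instConditionallyCompleteLinearOrder

namespace Groth.Agent.KSix16.RelTensor

variable {X S : Scheme.{u}}

/-- `- ⊗^L M` respects upper bounds. -/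
theorem isLE_tensor (M : CochainComplex X.Modules ℤ) [DCoh.HasLTensorCx M] (d : ℤ)
    (hM : (DerivedCategory.Q.obj M).IsLE d) (K : DCoh.D X) (a : ℤ) (hK : K.IsLE a) :
    ((DCoh.LTensorCx M).obj K).IsLE (a + d) := by
  haveI := hM
  haveI := hK
  obtain ⟨M', hM', ⟨eM⟩⟩ := (DerivedCategory.Q.obj M).exists_iso_Q_obj_of_isLE d
  obtain ⟨N, q, hNk, -, hq, hN⟩ := exists_kflat_sheaf_le M' d fun n hn => M'.isZero_of_isStrictlyLE d n hn
  haveI := hq
  haveI := LTensorSheaf.hasLTensorCx N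
  obtain ⟨t⟩ := TensorCongr.nonempty_congr (E := M) (E' := N) (eM ≪≫ (asIso (DerivedCategory.Q.map q)).symm)
  exact @CategoryTheory.Triangulated.TStructure.isLE_of_iso _ _ _ _ _ _ _ DerivedCategory.TStructure.t _ _
    (t.app K).symm (a + d) (DQCoh.isLE_LTensor N hNk d hN K a)

variable {f : X ⟶ S}

theorem rel_of_isLE [LocallyOfFiniteType f] {m n : ℤ} (hn : n < m) {K : DCoh.D X} (hK : K.IsLE n) :
    DerSch.IsPseudoCoherentRel f m K :=
  (rel_iff_chart m K).2 fun c => psc_of_isLE' hn (isLE_map _ _ n (isLE_map _ K n hK))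

theorem rel_mono [LocallyOfFiniteType f] {m m' : ℤ} (hm : m ≤ m') {K : DCoh.D X}
    (h : DerSch.IsPseudoCoherentRel f m K) : DerSch.IsPseudoCoherentRel f m' K :=
  (rel_iff_chart m' K).2 fun c => PCTriangle.psc_mono hm ((rel_iff_chart m K).1 h c)

theorem rel_ext [LocallyOfFiniteType f] {T : Triangle (DCoh.D X)} (hT : T ∈ distTriang _) {m : ℤ}
    (h₁ : DerSch.IsPseudoCoherentRel f m T.obj₁) (h₃ : DerSch.IsPseudoCoherentRel f m T.obj₃) :
    DerSch.IsPseudoCoherentRel f m T.obj₂ :=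
  (rel_iff_chart m _).2 fun c =>
    PCTriangle.psc_ext (c.fn.map_distinguished _ hT) ((rel_iff_chart m _).1 h₁ c) ((rel_iff_chart m _).1 h₃ c)

theorem rel_cone [LocallyOfFiniteType f] {T : Triangle (DCoh.D X)} (hT : T ∈ distTriang _) {m : ℤ}
    (h₁ : DerSch.IsPseudoCoherentRel f (m + 1) T.obj₁) (h₂ : DerSch.IsPseudoCoherentRel f m T.obj₂) :
    DerSch.IsPseudoCoherentRel f m T.obj₃ :=
  (rel_iff_chart m _).2 fun c =>
    PCTriangle.psc_cone (c.fn.map_distinguished _ hT) ((rel_iff_chart _ _).1 h₁ c) ((rel_iff_chart m _).1 h₂ c)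

theorem rel_fibre [LocallyOfFiniteType f] {T : Triangle (DCoh.D X)} (hT : T ∈ distTriang _) {m : ℤ}
    (h₂ : DerSch.IsPseudoCoherentRel f (m + 1) T.obj₂) (h₃ : DerSch.IsPseudoCoherentRel f m T.obj₃) :
    DerSch.IsPseudoCoherentRel f (m + 1) T.obj₁ :=
  (rel_iff_chart _ _).2 fun c =>
    PCTriangle.psc_fibre (c.fn.map_distinguished _ hT) ((rel_iff_chart _ _).1 h₂ c) ((rel_iff_chart m _).1 h₃ c)

variable [LocallyOfFiniteType f]

/-- Shifts of the left factor. -/
theorem rel_map_shift {F : DCoh.D X ⥤ DCoh.D X} (hF : TriExact F) (c : ℤ) (K : DCoh.D X)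
    (h : DerSch.IsPseudoCoherentRel f c (F.obj K)) (n : ℤ) :
    DerSch.IsPseudoCoherentRel f (c - n) (F.obj (K⟦n⟧)) := by
  have h0 : ∀ m : ℤ, DerSch.IsPseudoCoherentRel f m (F.obj (0 : DCoh.D X)) := fun m =>
    rel_of_isLE (n := m - 1) (by omega)
      (DerivedCategory.TStructure.t.isLE_of_isZero (hF.map_isZero (isZero_zero _)) _)
  have key : ∀ (m : ℤ) (L : DCoh.D X), DerSch.IsPseudoCoherentRel f (m + 1) (F.obj L) ↔
      DerSch.IsPseudoCoherentRel f m (F.obj (L⟦(1 : ℤ)⟧)) := fun m L => by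
    obtain ⟨δ, hδ⟩ := hF _ (rot_of_distTriang _ (contractible_distinguished L))
    exact ⟨fun hl => rel_cone hδ hl (h0 m), fun hl => rel_fibre hδ (h0 _) hl⟩
  induction n using Int.induction_on with
  | zero => exact FlatCx12.RelPCFlatBC.rel_iso (F.mapIso ((shiftFunctorZero _ ℤ).app K).symm) (by simpa using h)
  | succ i ih =>
    refine FlatCx12.RelPCFlatBC.rel_iso
      (F.mapIso ((shiftFunctorAdd' (DCoh.D X) (i : ℤ) 1 ((i : ℤ) + 1) rfl).app K).symm) ((key _ _).1 ?_)
    rwa [show c - ((i : ℤ) + 1) + 1 = c - i by omega]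
  | pred i ih =>
    have h2 := (key (c - (-(i : ℤ))) (K⟦(-(i : ℤ) - 1)⟧)).2 (FlatCx12.RelPCFlatBC.rel_iso
      (F.mapIso ((shiftFunctorAdd' (DCoh.D X) (-(i : ℤ) - 1) 1 (-(i : ℤ)) (by omega)).app K)) ih)
    rwa [show c - (-(i : ℤ)) + 1 = c - (-(i : ℤ) - 1) by omega] at h2

/-- `O ⊗^L M`. -/
theorem rel_tensor_structure (M : CochainComplex X.Modules ℤ) [DCoh.HasLTensorCx M] {c : ℤ}
    (hc : DerSch.IsPseudoCoherentRel f c (DerivedCategory.Q.obj M)) :
    DerSch.IsPseudoCoherentRel f c ((DCoh.LTensorCx M).obj (DCoh.inD X (Coh.structureModule X))) := by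
  obtain ⟨u⟩ := DQCoh.nonempty_unit_LTensor M
  let s : DCoh.inD X (Coh.structureModule X) ≅ (DQCoh.sec X).pt.obj ⊤ :=
    (DerivedCategory.singleFunctor X.Modules 0).mapIso (DQCoh.topStructIso X).symm ≪≫
      (DerivedCategory.singleFunctorIsoCompQ X.Modules 0).app _
  exact FlatCx12.RelPCFlatBC.rel_iso (u.symm ≪≫ (DCoh.LTensorCx M).mapIso s.symm) hc

/-- Finite sums in degree `0`. -/
theorem rel_tensor_sigma {F : DCoh.D X ⥤ DCoh.D X} (hF : TriExact F) {c : ℤ} : ∀ {n : ℕ} (G : Fin n → X.Modules),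
    (∀ i, DerSch.IsPseudoCoherentRel f c (F.obj (DCoh.inD X (G i)))) →
      DerSch.IsPseudoCoherentRel f c (F.obj (DCoh.inD X (∐ G))) := by
  intro n
  induction n with
  | zero =>
    intro G _
    exact rel_of_isLE (n := c - 1) (by omega) (DerivedCategory.TStructure.t.isLE_of_isZero (hF.map_isZero
      ((singleFunctor X.Modules 0).map_isZero ((IsZero.iff_id_eq_zero _).2 (Sigma.hom_ext _ _ fun i => i.elim0)))) _)
  | succ n ih =>
    intro G h
    let G' : Fin n → X.Modules := fun i => G i.succ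
    let p : ∐ G ⟶ ∐ G' := Sigma.desc (Fin.cases (0 : G 0 ⟶ ∐ G') fun i => Sigma.ι G' i)
    let r : ∐ G ⟶ G 0 := Sigma.desc (Fin.cases (𝟙 (G 0)) fun i => (0 : G i.succ ⟶ G 0))
    let sp : (ShortComplex.mk (Sigma.ι G 0) p (Sigma.ι_desc _ _)).Splitting :=
      { r := r
        s := Sigma.desc fun i => Sigma.ι G i.succ
        f_r := Sigma.ι_desc _ _
        s_g := Sigma.hom_ext _ _ fun i => by simp [p, G']
        id := Sigma.hom_ext _ _ fun i => by
          induction i using Fin.cases <;> simp [p, r, G'] }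
    obtain ⟨δ, hδ⟩ := hF _ sp.shortExact.singleTriangle_distinguished
    exact rel_ext hδ (h 0) (ih G' fun i => h i.succ)

/-- A finite locally free module in one degree. -/
theorem rel_tensor_finLocFree (M : CochainComplex X.Modules ℤ) [DCoh.HasLTensorCx M] {c : ℤ}
    (hc : DerSch.IsPseudoCoherentRel f c (DerivedCategory.Q.obj M)) {N : X.Modules}
    (hN : FlatMod.IsFinLocFree N) (b : ℤ) :
    DerSch.IsPseudoCoherentRel f (c + b) ((DCoh.LTensorCx M).obj ((singleFunctor X.Modules b).obj N)) := by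
  choose U n hx e using hN
  refine FlatCx12.RelPCRestrict.rel_of_cover f (c + b) _ (fun x => (U x).ι) (fun x => ⟨x, ⟨x, hx x⟩, rfl⟩) fun x => ?_
  haveI := PullPerf.preservesFiniteLimits_restrict (U x).ι
  obtain ⟨M', hM', ⟨eM⟩, ht⟩ := Dual22Lib.TenLocal.nonempty_rd_LTensor (U x).ι M
  obtain ⟨t⟩ := ht ((singleFunctor X.Modules b).obj N)
  have hc' := FlatCx12.RelPCFlatBC.rel_iso (f := (U x).ι ≫ f) eM.symm
    (FlatCx12.RelPCRestrict.rel_restrict (U x).ι f c _ hc)
  have h0 := rel_tensor_sigma (f := (U x).ι ≫ f) (Dual22Lib.TenLocal.triExact_LTensor M')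
    (fun _ : Fin (n x) => Coh.structureModule (U x).toScheme) (fun _ => rel_tensor_structure M' hc')
  have h1 := rel_map_shift (f := (U x).ι ≫ f) (Dual22Lib.TenLocal.triExact_LTensor M') c _ h0 (-b)
  rw [show c - -b = c + b by omega] at h1
  refine FlatCx12.RelPCFlatBC.rel_iso (t ≪≫ (DCoh.LTensorCx M').mapIso ?_).symm h1
  exact ((Scheme.Modules.restrictFunctor (U x).ι).mapDerivedCategorySingleFunctor b).app N ≪≫
    (singleFunctor _ b).mapIso (e x).some ≪≫
    (((DerivedCategory.singleFunctors _).shiftIso (-b) b 0 (by omega)).app _).symm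

/-- The induction on the top degree. -/
theorem rel_tensor_aux (k : ℕ) : ∀ {X : Scheme.{u}} (f : X ⟶ S) [LocallyOfFiniteType f]
    (M : CochainComplex X.Modules ℤ) [DCoh.HasLTensorCx M] (a c d m : ℤ),
    (DerivedCategory.Q.obj M).IsLE d → DerSch.IsPseudoCoherentRel f c (DerivedCategory.Q.obj M) →
    ∀ K : DCoh.D X, DCoh.IsPseudoCoherentD a K → K.IsLE (a - 1 + k) → a + d ≤ m → a - 1 + k + c ≤ m ∨ k = 0 →
      DerSch.IsPseudoCoherentRel f m ((DCoh.LTensorCx M).obj K) := by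
  induction k with
  | zero =>
    intro X f _ M _ a c d m hd _ K _ hK hm _
    exact rel_of_isLE (n := a - 1 + ((0 : ℕ) : ℤ) + d) (by omega) (isLE_tensor M d hd K _ hK)
  | succ k ih =>
    intro X f _ M _ a c d m hd hc K hp hK hm hbc
    replace hbc := hbc.resolve_right (Nat.succ_ne_zero k)
    obtain ⟨b, hb⟩ : ∃ b : ℤ, b = a + k := ⟨_, rfl⟩
    have hKb : K.IsLE b := by rwa [show b = a - 1 + ((k + 1 : ℕ) : ℤ) by push_cast; omega]
    have hH : CohB1.IsFT (DCoh.HD K b) :=
      (DQCoh.top_of_psc b K (PCTriangle.psc_mono (show a ≤ b by omega) hp)).1 fun i hi =>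
        (DerivedCategory.isLE_iff _ _).1 hKb i hi
    choose W j hj N α hx hN hα using FlatCx12.RelPCBound.exists_map_top' K b hKb hH
    haveI := hj
    refine FlatCx12.RelPCRestrict.rel_of_cover f m _ j (fun x => ⟨x, hx x⟩) fun x => ?_
    obtain ⟨M', hM', ⟨eM⟩, ht⟩ := Dual22Lib.TenLocal.nonempty_rd_LTensor (j x) M
    obtain ⟨t⟩ := ht K
    obtain ⟨C, g, w, hT⟩ := distinguished_cocone_triangle (α x)
    have hC : C.IsLE (a - 1 + k) := by
      have := (PullPerf.apx_iff_isLE b _ hT).1 (hα x)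
      rwa [show a - 1 + (k : ℤ) = b - 1 by omega]
    have hpC : DCoh.IsPseudoCoherentD a C := PCTriangle.psc_cone hT (PCTriangle.psc_iso
        (((DerivedCategory.singleFunctors _).shiftIso (-b) b 0 (by omega)).app (N x))
        (PCTriangle.psc_shift (DQCoh.psc_inD_finLocFree (a + 1 - b) (hN x)) (-b) (a + 1) (by omega)))
      (DQCoh.psc_rd _ hp)
    haveI := PullPerf.preservesFiniteLimits_restrict (j x)
    have hd' : (DerivedCategory.Q.obj M').IsLE d :=
      @CategoryTheory.Triangulated.TStructure.isLE_of_iso _ _ _ _ _ _ _ DerivedCategory.TStructure.t _ _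
        eM.symm d (isLE_map (Scheme.Modules.restrictFunctor (j x)) _ d hd)
    have hc' := FlatCx12.RelPCFlatBC.rel_iso (f := j x ≫ f) eM.symm (FlatCx12.RelPCRestrict.rel_restrict (j x) f c _ hc)
    obtain ⟨δ, hδ⟩ := Dual22Lib.TenLocal.triExact_LTensor M' _ hT
    refine FlatCx12.RelPCFlatBC.rel_iso t.symm (rel_ext hδ ?_ (ih (j x ≫ f) M' a c d m hd' hc' C hpC hC hm ?_))
    · exact rel_mono (by push_cast at hbc; omega) (rel_tensor_finLocFree M' hc' (hN x) b)
    · push_cast at hbc; omega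

/-- `E ⊗^L M` for `E` absolutely `a`-pseudo-coherent, `≤ b`, and `M` relatively `c`-pseudo-coherent, `≤ d`. -/
theorem rel_tensor (f : X ⟶ S) [LocallyOfFiniteType f] (M : CochainComplex X.Modules ℤ) [DCoh.HasLTensorCx M]
    (a b c d m : ℤ) (hd : (DerivedCategory.Q.obj M).IsLE d)
    (hc : DerSch.IsPseudoCoherentRel f c (DerivedCategory.Q.obj M)) (K : DCoh.D X)
    (hp : DCoh.IsPseudoCoherentD a K) (hb : K.IsLE b) (hm : a + d ≤ m) (hm' : b + c ≤ m) :
    DerSch.IsPseudoCoherentRel f m ((DCoh.LTensorCx M).obj K) := by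
  by_cases hba : b < a
  · exact rel_of_isLE (n := b + d) (by omega) (isLE_tensor M d hd K b hb)
  exact rel_tensor_aux (b + 1 - a).toNat f M a c d m hd hc K hp
    (by rwa [show a - 1 + ((b + 1 - a).toNat : ℤ) = b by omega]) hm (Or.inl (by omega))

end Groth.Agent.KSix16.RelTensor
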