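import Groth.Agent.KSix16.RelTensor
import Groth.Agent.FlatCx12.ClosedBC
import Groth.Agent.FlatCx12.RelPCThick
import Groth.Agent.KSix16.ProjRel
import Groth.Agent.FlatCx12.RelPCCompBound
import Groth.Agent.DCat.ClosedPushD
import Groth.Agent.Dual22Lib.ShSymm
import Groth.Agent.Dual6Lib.BCShriekAffine

/-!
# `Lf^* F ⊗^L E` relative to a composite
-/

set_option autoImplicit false
set_option backward.isDefEq.respectTransparency false
set_option backward.defeqAttrib.useBackward true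
set_option linter.style.haveILetI false
set_option synthInstance.maxHeartbeats 100000

universe u

open CategoryTheory CategoryTheory.Limits CategoryTheory.Pretriangulated DerivedCategory AlgebraicGeometry
open Groth.Agent.DCat Groth.Agent.FlatCx12.RelPCChart Groth.Agent.FlatCx12.RelPCOps Groth.Agent.FlatCx12.EmbPush Groth.Agent.ModStalk

attribute [local instance] HasDerivedCategory.standard
attribute [-instance] Int.instConditionallyCompleteLinearOrder

namespace Groth.Agent.KSix16.RelTensor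

theorem nonempty_Lpull_congr {P Q : Scheme.{u}} {p q : P ⟶ Q} [DCoh.HasLpull p] [DCoh.HasLpull q] (h : p = q)
    (K : DCoh.D Q) : Nonempty ((DCoh.Lpull p).obj K ≅ (DCoh.Lpull q).obj K) := by
  subst h; exact ⟨Iso.refl _⟩

/-- Flat base change of the direct image along a closed immersion. -/
theorem nonempty_Lpull_pd {X Y X' Y' : Scheme.{u}} {i : X ⟶ Y} {h : Y' ⟶ Y} {i' : X' ⟶ Y'} {g : X' ⟶ X}
    (hc : IsPullback g i' i h) [IsClosedImmersion i] [IsClosedImmersion i'] [Flat h] [Flat g]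
    [DCoh.HasLpull h] [DCoh.HasLpull g]
    [PreservesFiniteColimits (Scheme.Modules.pushforward i)] [PreservesFiniteColimits (Scheme.Modules.pushforward i')]
    (A : DCoh.D X) :
    Nonempty ((DCoh.Lpull h).obj ((pd i).obj A) ≅ (pd i').obj ((DCoh.Lpull g).obj A)) := by
  obtain ⟨τ⟩ := FlatCx12.ClosedBC.nonempty_pullback_push hc
  obtain ⟨βh⟩ := Dual6Lib.BCShriekAffine.nonempty_Lpull_Gd h
  obtain ⟨βg⟩ := Dual6Lib.BCShriekAffine.nonempty_Lpull_Gd g
  let A₀ := DerivedCategory.Q.objPreimage A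
  let eA : DerivedCategory.Q.obj A₀ ≅ A := DerivedCategory.Q.objObjPreimageIso A
  let pi := Scheme.Modules.pushforward i
  let pi' := Scheme.Modules.pushforward i'
  let ph := Scheme.Modules.pullback h
  let pg := Scheme.Modules.pullback g
  let e₁ : (Dual6Lib.HomFlat.Gd h).obj ((pd i).obj (DerivedCategory.Q.obj A₀)) ≅
      DerivedCategory.Q.obj ((ph.mapHomologicalComplex (ComplexShape.up ℤ)).obj ((pi.mapHomologicalComplex (ComplexShape.up ℤ)).obj A₀)) :=
    (Dual6Lib.HomFlat.Gd h).mapIso (pi.mapDerivedCategoryFactors.app A₀) ≪≫ ph.mapDerivedCategoryFactors.app _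
  let e₂ : (pd i').obj ((Dual6Lib.HomFlat.Gd g).obj (DerivedCategory.Q.obj A₀)) ≅
      DerivedCategory.Q.obj ((pi'.mapHomologicalComplex (ComplexShape.up ℤ)).obj ((pg.mapHomologicalComplex (ComplexShape.up ℤ)).obj A₀)) :=
    (pd i').mapIso (pg.mapDerivedCategoryFactors.app A₀) ≪≫ pi'.mapDerivedCategoryFactors.app _
  let e₃ : (ph.mapHomologicalComplex (ComplexShape.up ℤ)).obj ((pi.mapHomologicalComplex (ComplexShape.up ℤ)).obj A₀) ≅
      (pi'.mapHomologicalComplex (ComplexShape.up ℤ)).obj ((pg.mapHomologicalComplex (ComplexShape.up ℤ)).obj A₀) :=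
    HomologicalComplex.Hom.isoOfComponents (fun n => τ.app (A₀.X n))
      (fun a b _ => (τ.hom.naturality (A₀.d a b)).symm)
  exact ⟨βh.app _ ≪≫ (Dual6Lib.HomFlat.Gd h).mapIso ((pd i).mapIso eA.symm) ≪≫ e₁ ≪≫ DerivedCategory.Q.mapIso e₃ ≪≫
    e₂.symm ≪≫ (pd i').mapIso ((Dual6Lib.HomFlat.Gd g).mapIso eA) ≪≫ (pd i').mapIso (βg.app A).symm⟩

/-- Symmetry of the derived tensor product on representatives. -/
theorem nonempty_swap {X : Scheme.{u}} {A : CochainComplex X.Modules ℤ} (hA : IsKFlatFor (shT X) A)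
    (B : CochainComplex X.Modules ℤ) [DCoh.HasLTensorCx A] [DCoh.HasLTensorCx B] :
    Nonempty ((DCoh.LTensorCx B).obj (DerivedCategory.Q.obj A) ≅ (DCoh.LTensorCx A).obj (DerivedCategory.Q.obj B)) :=
  ⟨LTensorSheaf.ltensorCxIso B hA ≪≫ DerivedCategory.Q.mapIso (Dual22Lib.ShSymm.symm A B) ≪≫
    (LTensorSheaf.ltensorCxIso' hA B).symm⟩

variable {X Y Z : Scheme.{u}}

/-- The local statement, after a closed immersion into a flat `Y`-scheme of finite presentation. -/
theorem rel_of_presentation {U T : Scheme.{u}} (l : U ⟶ T) [IsClosedImmersion l]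
    [PreservesFiniteColimits (Scheme.Modules.pushforward l)] (r : T ⟶ Z) [LocallyOfFiniteType r] (a b c d m : ℤ)
    (E : CochainComplex U.Modules ℤ) [DCoh.HasLTensorCx E]
    (hpE : DCoh.IsPseudoCoherentD a ((pd l).obj (DerivedCategory.Q.obj E)))
    (hbE : (DerivedCategory.Q.obj E).IsLE b) (G : DCoh.D T) (hG : DerSch.IsPseudoCoherentRel r c G) (hGd : G.IsLE d)
    [DCoh.HasLpull l] (hm : a + d ≤ m) (hm' : b + c ≤ m) :
    DerSch.IsPseudoCoherentRel (l ≫ r) m ((DCoh.LTensorCx E).obj ((DCoh.Lpull l).obj G)) := by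
  haveI := hGd
  obtain ⟨G₀, hG₀, ⟨eG⟩⟩ := G.exists_iso_Q_obj_of_isLE d
  obtain ⟨N, q, hNk, -, hq, hN⟩ := exists_kflat_sheaf_le G₀ d fun n hn => G₀.isZero_of_isStrictlyLE d n hn
  haveI := hq
  let e : DerivedCategory.Q.obj N ≅ G := asIso (DerivedCategory.Q.map q) ≪≫ eG.symm
  haveI := LTensorSheaf.hasLTensorCx N
  let A := ((Scheme.Modules.pullback l).mapHomologicalComplex (ComplexShape.up ℤ)).obj N
  haveI := LTensorSheaf.hasLTensorCx A
  haveI := hasRpush l
  have hNd : (DerivedCategory.Q.obj N).IsLE d :=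
    @CategoryTheory.Triangulated.TStructure.isLE_of_iso _ _ _ _ _ _ _ DerivedCategory.TStructure.t _ _ e.symm d hGd
  have hkey := rel_tensor r N a b c d m hNd (FlatCx12.RelPCFlatBC.rel_iso e.symm hG) _ hpE
    (isLE_map (Scheme.Modules.pushforward l) _ b hbE) hm hm'
  obtain ⟨p⟩ := ClosedPushD.nonempty_projection l N hNk (DerivedCategory.Q.obj E)
  obtain ⟨u⟩ := FlatCx12.RelPCThick.nonempty_Rpush_pd l (DerivedCategory.Q.obj E)
  obtain ⟨u'⟩ := FlatCx12.RelPCThick.nonempty_Rpush_pd l ((DCoh.LTensorCx A).obj (DerivedCategory.Q.obj E))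
  obtain ⟨s⟩ := nonempty_swap (PullTot.isKFlatFor_pullback l hNk) E
  have h2 := (rel_push_iff l r m _).2
    (FlatCx12.RelPCFlatBC.rel_iso ((DCoh.LTensorCx N).mapIso u.symm ≪≫ p ≪≫ u') hkey)
  exact FlatCx12.RelPCFlatBC.rel_iso
    (s.symm ≪≫ (DCoh.LTensorCx E).mapIso ((PullPerf.lpullIso l hNk).symm ≪≫ (DCoh.Lpull l).mapIso e)) h2

/-- The main bound. -/
theorem rel_comp (f : X ⟶ Y) (g : Y ⟶ Z) [LocallyOfFiniteType f] [LocallyOfFiniteType g] [DCoh.HasLpull f]
    (b c m : ℤ) (E : CochainComplex X.Modules ℤ) [DCoh.HasLTensorCx E]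
    (hb : (DerivedCategory.Q.obj E).IsLE b) (F : DCoh.D Y) (hF : DerSch.IsPseudoCoherentRel g c F)
    (hd : ∀ W : Y.Opens, IsAffineOpen W → ∃ a d : ℤ, DerSch.IsPseudoCoherentRel f a (DerivedCategory.Q.obj E) ∧
      ((PerfLocal.rd W.ι).obj F).IsLE d ∧ a + d ≤ m)
    (hm' : b + c ≤ m) :
    DerSch.IsPseudoCoherentRel (f ≫ g) m ((DCoh.LTensorCx E).obj ((DCoh.Lpull f).obj F)) := by
  choose U W V hUW hWV hx using fun x => FlatCx12.RelPCCompBound.exists_affine_triple f g x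
  refine FlatCx12.RelPCRestrict.rel_of_cover (f ≫ g) m _ (fun x => (U x).1.ι) (fun x => ⟨x, ⟨x, hx x⟩, rfl⟩) fun x => ?_
  let U₀ : X.Opens := (U x).1
  let W₀ : Y.Opens := (W x).1
  obtain ⟨a, d, hE, hd, hm⟩ := hd W₀ (W x).2
  -- charts of both morphisms
  algebraize [(f.appLE W₀ U₀ (hUW x)).hom, (g.appLE (V x).1 W₀ (hWV x)).hom]
  obtain ⟨n, ψ, hψ⟩ := Algebra.FiniteType.iff_quotient_mvPolynomial''.1
    (show Algebra.FiniteType Γ(Y, W₀) Γ(X, U₀) from f.finiteType_appLE (W x).2 (U x).2 (hUW x))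
  obtain ⟨k, π₀, hπ₀⟩ := Algebra.FiniteType.iff_quotient_mvPolynomial''.1
    (show Algebra.FiniteType Γ(Z, (V x).1) Γ(Y, W₀) from g.finiteType_appLE (V x).2 (W x).2 (hWV x))
  let cg : Chart g := ⟨W x, V x, hWV x, k, π₀.toRingHom, hπ₀, RingHom.ext fun r => π₀.commutes r⟩
  let P := cg.space
  haveI : IsClosedImmersion cg.imm := FlatCx12.RelPCChart.isClosedImmersion_along (W x).2 hπ₀
  let RP := CommRingCat.of (MvPolynomial (Fin k) Γ(Z, (V x).1))
  let P' : Scheme.{u} := Spec (CommRingCat.of (MvPolynomial (Fin n) RP))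
  let h : P' ⟶ P := Spec.map (CommRingCat.ofHom (MvPolynomial.C : RP →+* _))
  haveI : Flat h := flat_affineSpace_toSpec RP n
  haveI : LocallyOfFinitePresentation h := lfp_affineSpace_toSpec RP n
  let T := pullback cg.imm h
  let fst : T ⟶ W₀.toScheme := pullback.fst cg.imm h
  let i' : T ⟶ P' := pullback.snd cg.imm h
  have hc : IsPullback fst i' cg.imm h := IsPullback.of_hasPullback _ _
  haveI : IsClosedImmersion i' := MorphismProperty.pullback_snd _ _ inferInstance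
  haveI : Flat fst := MorphismProperty.pullback_fst _ _ inferInstance
  haveI : LocallyOfFinitePresentation fst := MorphismProperty.pullback_fst _ _ inferInstance
  let π : T ⟶ Y := fst ≫ W₀.ι
  haveI : Flat π := inferInstanceAs (Flat (fst ≫ W₀.ι))
  haveI : LocallyOfFinitePresentation π := inferInstanceAs (LocallyOfFinitePresentation (fst ≫ W₀.ι))
  -- the closed immersion of `U`
  let γ := ψ.toRingHom.comp (MvPolynomial.map (σ := Fin n) π₀.toRingHom)
  have hγ : Function.Surjective γ := hψ.comp (MvPolynomial.map_surjective _ hπ₀)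
  haveI := FlatCx12.RelPCChart.isClosedImmersion_along (U x).2 hγ
  let j : U₀.toScheme ⟶ P' := U₀.toSpecΓ ≫ Spec.map (CommRingCat.ofHom γ)
  let φU : U₀.toScheme ⟶ W₀.toScheme := f.resLE W₀ U₀ (hUW x)
  have hj : φU ≫ cg.imm = j ≫ h := by
    have e : (CommRingCat.ofHom (MvPolynomial.C : RP →+* _) ≫ CommRingCat.ofHom γ) =
        CommRingCat.ofHom π₀.toRingHom ≫ f.appLE W₀ U₀ (hUW x) := by
      refine CommRingCat.hom_ext (RingHom.ext fun r => ?_)
      show ψ.toRingHom (MvPolynomial.map π₀.toRingHom (MvPolynomial.C r)) = _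
      rw [MvPolynomial.map_C]
      exact ψ.commutes _
    simp only [j, h, φU, Category.assoc, Chart.imm, cg]
    rw [← Spec.map_comp, e, Spec.map_comp, Scheme.Opens.toSpecΓ_SpecMap_appLE_assoc]
  let l : U₀.toScheme ⟶ T := pullback.lift φU j hj
  haveI : IsClosedImmersion l := by
    haveI : IsClosedImmersion (l ≫ i') := by rw [pullback.lift_snd]; infer_instance
    exact IsClosedImmersion.of_comp l i'
  have hl : l ≫ π = U₀.ι ≫ f := by
    show l ≫ fst ≫ W₀.ι = _
    rw [pullback.lift_fst_assoc, Scheme.Hom.resLE_comp_ι]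
  haveI := preservesFiniteColimits_iso l
  haveI := preservesFiniteColimits_iso i'
  haveI := PullPerf.preservesFiniteLimits_restrict U₀.ι
  haveI := PullPerf.preservesFiniteLimits_restrict W₀.ι
  haveI := hasLpull h
  haveI := hasLpull fst
  haveI := hasLpull π
  haveI := hasLpull l
  haveI := hasLpull U₀.ι
  haveI := hasLpull W₀.ι
  haveI := hasLpull (U₀.ι ≫ f)
  haveI := hasLpull (l ≫ π)
  obtain ⟨E', hE', ⟨eE⟩, ht⟩ := Dual22Lib.TenLocal.nonempty_rd_LTensor U₀.ι E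
  obtain ⟨t⟩ := ht ((DCoh.Lpull f).obj F)
  -- the pullback to `T`
  obtain ⟨β⟩ := nonempty_Lpull_pd hc ((PerfLocal.rd W₀.ι).obj F)
  obtain ⟨a₁⟩ := nonempty_LpullComp fst W₀.ι
  obtain ⟨a₂⟩ := DQCoh.nonempty_Lpull_restrict W₀.ι F
  let G := (DCoh.Lpull π).obj F
  let eG : (DCoh.Lpull fst).obj ((PerfLocal.rd W₀.ι).obj F) ≅ G :=
    (DCoh.Lpull fst).mapIso a₂.symm ≪≫ a₁.app F
  haveI : LocallyOfFiniteType (π ≫ g) := inferInstance
  have hFp : DCoh.IsPseudoCoherentD c ((pd cg.imm).obj ((PerfLocal.rd W₀.ι).obj F)) :=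
    (rel_iff_chart c F).1 hF cg
  have hG : DerSch.IsPseudoCoherentRel (π ≫ g) c G := by
    haveI := flat_affineSpace_toSpec Γ(Z, (V x).1) k
    haveI := lfp_affineSpace_toSpec Γ(Z, (V x).1) k
    have h1 := (rel_iff_psc (h ≫ chartBase cg) c _).2
      (PCTriangle.psc_iso β (PullPerf.isPseudoCoherentD_Lpull h c _ hFp))
    have h2 := (rel_push_iff i' (h ≫ chartBase cg) c _).2 h1
    have e : i' ≫ h ≫ chartBase cg = π ≫ g := by
      rw [← Category.assoc, ← hc.w, Category.assoc, imm_chartBase]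
      exact (Category.assoc _ _ _).symm
    rw [e] at h2
    exact FlatCx12.RelPCFlatBC.rel_iso eG h2
  have hGd : G.IsLE d := @CategoryTheory.Triangulated.TStructure.isLE_of_iso _ _ _ _ _ _ _
    DerivedCategory.TStructure.t _ _ eG d (PullPerf.isLE_Lpull fst _ d hd)
  -- `E` on `T`
  have hrE : DerSch.IsPseudoCoherentRel (l ≫ π) a (DerivedCategory.Q.obj E') := by
    rw [hl]
    exact FlatCx12.RelPCFlatBC.rel_iso eE.symm (FlatCx12.RelPCRestrict.rel_restrict U₀.ι f a _ hE)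
  have hpE : DCoh.IsPseudoCoherentD a ((pd l).obj (DerivedCategory.Q.obj E')) := by
    refine (rel_iff_psc (𝟙 T) a _).1 ((rel_push_iff l (𝟙 T) a _).1 ?_)
    rw [Category.comp_id]
    exact (rel_comp_iff l π a _).1 hrE
  have hbE : (DerivedCategory.Q.obj E').IsLE b := @CategoryTheory.Triangulated.TStructure.isLE_of_iso _ _ _ _ _ _ _
    DerivedCategory.TStructure.t _ _ eE.symm b (isLE_map (Scheme.Modules.restrictFunctor U₀.ι) _ b hb)
  have h3 := rel_of_presentation l (π ≫ g) a b c d m E' hpE hbE G hG hGd hm hm'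
  rw [← Category.assoc, hl, Category.assoc] at h3
  obtain ⟨b₁⟩ := nonempty_LpullComp l π
  obtain ⟨b₂⟩ := nonempty_LpullComp U₀.ι f
  obtain ⟨b₃⟩ := nonempty_Lpull_congr hl F
  obtain ⟨b₄⟩ := DQCoh.nonempty_Lpull_restrict U₀.ι ((DCoh.Lpull f).obj F)
  exact FlatCx12.RelPCFlatBC.rel_iso ((DCoh.LTensorCx E').mapIso (b₁.app F ≪≫ b₃ ≪≫ (b₂.app F).symm ≪≫ b₄) ≪≫ t.symm) h3

/-- `Lf^* F ⊗^L O ≅ Lf^* F`. -/
theorem nonempty_tensor_structure (S : CochainComplex X.Modules ℤ) [DCoh.HasLTensorCx S]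
    (e : DerivedCategory.Q.obj S ≅ DCoh.inD X (Coh.structureModule X)) (K : DCoh.D X) :
    Nonempty ((DCoh.LTensorCx S).obj K ≅ K) := by
  obtain ⟨N, hN, ⟨eN⟩⟩ := PullPerf.exists_kflat_rep K
  haveI := LTensorSheaf.hasLTensorCx N
  obtain ⟨u⟩ := DQCoh.nonempty_unit_LTensor N
  obtain ⟨s⟩ := nonempty_swap hN S
  let t : DCoh.inD X (Coh.structureModule X) ≅ (DQCoh.sec X).pt.obj ⊤ :=
    (DerivedCategory.singleFunctor X.Modules 0).mapIso (DQCoh.topStructIso X).symm ≪≫
      (DerivedCategory.singleFunctorIsoCompQ X.Modules 0).app _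
  exact ⟨(DCoh.LTensorCx S).mapIso eN.symm ≪≫ s ≪≫ (DCoh.LTensorCx N).mapIso (e ≪≫ t) ≪≫ u ≪≫ eN⟩

end Groth.Agent.KSix16.RelTensor
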