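import Groth.Agent.FlatCx12.AmpFibre
import Groth.Agent.FlatCx12.AmpFibreRing
import Groth.Agent.DQCoh.PerfectAffine
import Groth.Agent.DQCoh.PscNoeth
import Groth.Agent.Dual22Lib.RdComp
import Groth.Agent.DRingLib.PCRes
import Groth.Agent.Coherent.FiniteType
import Groth.Agent.ModStalk.Exact
import Groth.Agent.DCat.TildeStalk
import Mathlib.Algebra.Module.FinitePresentation

/-!
# Isomorphisms of stalks of pseudo-coherent objects spread out
-/

set_option autoImplicit false
set_option backward.isDefEq.respectTransparency false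
set_option backward.defeqAttrib.useBackward true
set_option linter.style.haveILetI false
set_option synthInstance.maxHeartbeats 100000
set_option backward.isDefEq.respectTransparency.types false

universe u

open CategoryTheory CategoryTheory.Limits CategoryTheory.Pretriangulated DerivedCategory AlgebraicGeometry
open Groth.Agent.DCat HomologicalComplex TensorProduct

attribute [local instance] HasDerivedCategory.standard
attribute [-instance] Int.instConditionallyCompleteLinearOrder

namespace Groth.Agent.KSix16.StalkIsoNhd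

section Ring

variable {B L : Type u} [CommRing B] [CommRing L] [Algebra B L] (T : Submonoid B) [IsLocalization T L]

/-- Clearing the denominators of a map out of a finitely presented module. -/
theorem exists_lift (M N : Type u) [AddCommGroup M] [Module B M] [AddCommGroup N] [Module B N]
    [Module.FinitePresentation B M] (g : L ⊗[B] M →ₗ[L] L ⊗[B] N) :
    ∃ (h : M →ₗ[B] N) (s : T), h.baseChange L = algebraMap B L s.1 • g := by
  haveI := FlatCx12.AmpFibreRing.isLocalizedModule_mk (L := L) T N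
  obtain ⟨h, s, hs⟩ := Module.FinitePresentation.exists_lift_of_isLocalizedModule T (TensorProduct.mk B L N 1)
    ((g.restrictScalars B) ∘ₗ TensorProduct.mk B L M 1)
  refine ⟨h, s, LinearMap.ext fun z => ?_⟩
  induction z using TensorProduct.induction_on with
  | zero => simp only [map_zero]
  | add z w hz hw => simp only [map_add, hz, hw]
  | tmul l m =>
    have h1 : (1 : L) ⊗ₜ[B] h m = s.1 • g ((1 : L) ⊗ₜ[B] m) := LinearMap.congr_fun hs m
    have hl : ∀ (n : Type u) [AddCommGroup n] [Module B n] (y : n), l ⊗ₜ[B] y = l • ((1 : L) ⊗ₜ[B] y) := fun n _ _ y => by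
      rw [TensorProduct.smul_tmul', smul_eq_mul, mul_one]
    rw [LinearMap.baseChange_tmul, hl N (h m), h1, LinearMap.smul_apply, hl M m, map_smul, algebraMap_smul, smul_comm]

/-- Equal base changes agree after clearing denominators. -/
theorem exists_kill (M N : Type u) [AddCommGroup M] [Module B M] [AddCommGroup N] [Module B N]
    [Module.Finite B M] (h h' : M →ₗ[B] N) (e : h.baseChange L = h'.baseChange L) :
    ∃ t : T, t.1 • h = t.1 • h' := by
  haveI := FlatCx12.AmpFibreRing.isLocalizedModule_mk (L := L) T N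
  obtain ⟨t, ht⟩ := Module.Finite.exists_smul_of_comp_eq_of_isLocalizedModule (S := T) (f := TensorProduct.mk B L N 1) h h'
    (LinearMap.ext fun m => by
      have := LinearMap.congr_fun e ((1 : L) ⊗ₜ[B] m)
      rwa [LinearMap.baseChange_tmul, LinearMap.baseChange_tmul] at this)
  exact ⟨t, ht⟩

/-- A scaled quasi-isomorphism is a quasi-isomorphism. -/
theorem isIso_Q_of_smul {P K : DRing.Cx L} (φ φ' : P ⟶ K) (w : L) (hw : IsUnit w)
    (h : ∀ i, (φ'.f i).hom = w • (φ.f i).hom) [IsIso (DerivedCategory.Q.map φ)] : IsIso (DerivedCategory.Q.map φ') := by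
  obtain ⟨w, rfl⟩ := hw
  let m : K ≅ K := HomologicalComplex.Hom.isoOfComponents
    (fun i => (LinearEquiv.smulOfUnit (R := L) w).toModuleIso)
    (fun i j _ => ModuleCat.hom_ext (LinearMap.ext fun z => (K.d i j).hom.map_smul (w : L) z))
  have e : φ' = φ ≫ m.hom := by
    ext i : 1
    exact ModuleCat.hom_ext ((h i).trans rfl)
  rw [e, Functor.map_comp]
  infer_instance

end Ring

/-- A map of complexes over a localization descends after scaling. -/
theorem exists_descend {B L : Type u} [CommRing B] [CommRing L] (T : Submonoid B) (σ : B →+* L)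
    (hloc : @IsLocalization B _ T L _ σ.toAlgebra) (P K : DRing.Cx B)
    (hP : ∀ i, Module.FinitePresentation B (P.X i)) {c e : ℤ} (hK : DRing.VanishesOutside K c e)
    (φ : ((ModuleCat.extendScalars.{u, u, u} σ).mapHomologicalComplex (ComplexShape.up ℤ)).obj P ⟶
      ((ModuleCat.extendScalars.{u, u, u} σ).mapHomologicalComplex (ComplexShape.up ℤ)).obj K) :
    ∃ (ψ : P ⟶ K) (w : L), IsUnit w ∧
      ∀ i, ((ModuleCat.extendScalars.{u, u, u} σ).map (ψ.f i)).hom = w • (φ.f i).hom := by
  letI := σ.toAlgebra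
  haveI := hloc
  classical
  let F := ModuleCat.extendScalars.{u, u, u} σ
  let g : ∀ i, (L ⊗[B] P.X i →ₗ[L] L ⊗[B] K.X i) := fun i =>
    { toFun := fun z => (φ.f i).hom z
      map_add' := fun z z' => (φ.f i).hom.map_add z z'
      map_smul' := fun r z => (φ.f i).hom.map_smul r z }
  haveI := hP
  choose h s hs using fun i => exists_lift T (P.X i) (K.X i) (g i)
  let S : Finset ℤ := Finset.Icc c e
  let h₁ : ∀ i, (P.X i →ₗ[B] K.X i) := fun i => if i ∈ S then (∏ j ∈ S.erase i, (s j).1) • h i else 0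
  let w₀ : B := ∏ j ∈ S, (s j).1
  have hw₀ : w₀ ∈ T := Submonoid.prod_mem _ fun j _ => (s j).2
  have hzK : ∀ i, i ∉ S → IsZero (K.X i) := fun i hi => hK i (by
    by_contra hc; push Not at hc; exact hi (Finset.mem_Icc.2 ⟨hc.1, hc.2⟩))
  have hh₁ : ∀ i, (h₁ i).baseChange L = algebraMap B L w₀ • g i := fun i => by
    by_cases hi : i ∈ S
    · simp only [h₁, if_pos hi, LinearMap.baseChange_smul, hs]
      rw [← algebraMap_smul L (∏ j ∈ S.erase i, (s j).1), smul_smul, ← map_mul, Finset.prod_erase_mul _ _ hi]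
    · haveI := ModuleCat.subsingleton_of_isZero (F.map_isZero (hzK i hi))
      refine LinearMap.ext fun z => ?_
      exact @Subsingleton.elim (F.obj (K.X i)) _ _ _
  have hcomm : ∀ i, (((K.d i (i + 1)).hom.comp (h₁ i)).baseChange L) =
      (((h₁ (i + 1)).comp (P.d i (i + 1)).hom).baseChange L) := fun i => by
    rw [LinearMap.baseChange_comp, LinearMap.baseChange_comp, hh₁, hh₁, LinearMap.comp_smul, LinearMap.smul_comp]
    congr 1
    exact congrArg ModuleCat.Hom.hom (φ.comm i (i + 1))
  haveI : ∀ i, Module.Finite B (P.X i) := fun i => inferInstance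
  choose t ht using fun i => exists_kill T (P.X i) (K.X (i + 1)) _ _ (hcomm i)
  let S' : Finset ℤ := Finset.Icc (c - 1) e
  let t₀ : B := ∏ j ∈ S', (t j).1
  have ht₀ : t₀ ∈ T := Submonoid.prod_mem _ fun j _ => (t j).2
  let ψ : P ⟶ K :=
    { f := fun i => ModuleCat.ofHom (t₀ • h₁ i)
      comm' := fun i j hij => by
        obtain rfl : i + 1 = j := hij
        refine ModuleCat.hom_ext ?_
        rw [ModuleCat.hom_comp, ModuleCat.hom_comp, ModuleCat.hom_ofHom, ModuleCat.hom_ofHom, LinearMap.comp_smul,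
          LinearMap.smul_comp]
        by_cases hi : i ∈ S'
        · simp only [t₀, ← Finset.prod_erase_mul _ _ hi, mul_smul, ht i]
        · haveI := ModuleCat.subsingleton_of_isZero (hzK (i + 1) fun h => hi (Finset.mem_Icc.2
            ⟨by have := (Finset.mem_Icc.1 h).1; omega, by have := (Finset.mem_Icc.1 h).2; omega⟩))
          exact LinearMap.ext fun z => Subsingleton.elim _ _ }
  refine ⟨ψ, algebraMap B L (t₀ * w₀), IsLocalization.map_units L (⟨t₀ * w₀, T.mul_mem ht₀ hw₀⟩ : T), fun i => ?_⟩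
  show (t₀ • h₁ i).baseChange L = _
  rw [LinearMap.baseChange_smul, hh₁, ← algebraMap_smul L t₀, smul_smul, ← map_mul]
  rfl


variable {X : Scheme.{u}}

/-- A bounded pseudo-coherent object with vanishing stalk vanishes near the point. -/
theorem exists_nhd_isZero (n : ℕ) : ∀ (K : DCoh.D X) (x : X) (c : ℤ), K.IsGE c → K.IsLE (c - 1 + n) →
    (∀ m, DCoh.IsPseudoCoherentD m K) → (∀ i, IsZero ((DerSch.stalkFunctor X x).obj (DCoh.HD K i))) →
    ∃ (W : Scheme.{u}) (k : W ⟶ X) (_ : IsOpenImmersion k), x ∈ k.opensRange ∧ IsZero ((PerfLocal.rd k).obj K) := by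
  induction n generalizing X with
  | zero =>
    intro K x c hge hle _ _
    refine ⟨X, 𝟙 X, inferInstance, by simp, Functor.map_isZero _ ?_⟩
    haveI := hge
    haveI : K.IsLE (c - 1) := by simpa using hle
    exact DerivedCategory.TStructure.t.isZero K (c - 1) c (by omega)
  | succ n ih =>
    intro K x c hge hle hp hs
    obtain ⟨d, hd⟩ : ∃ d : ℤ, d = c + n := ⟨_, rfl⟩
    have hKd : K.IsLE d := by rwa [show d = c - 1 + ((n + 1 : ℕ) : ℤ) by push_cast; omega]
    have hH : CohB1.IsFT (DCoh.HD K d) :=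
      (DQCoh.top_of_psc d K (hp d)).1 fun i hi => (DerivedCategory.isLE_iff _ _).1 hKd i hi
    let H : X.Modules := DCoh.HD K d
    let U : X.Opens := ⟨(CohB1.support H)ᶜ, (Coherent.isClosed_support H (Coherent.locallyFinGen_of_isFT H hH)).isOpen_compl⟩
    have hxU : x ∈ U := fun hx => hx (ModuleCat.subsingleton_of_isZero (hs d))
    haveI := PullPerf.preservesFiniteLimits_restrict U.ι
    let K' := (PerfLocal.rd U.ι).obj K
    have hHz : ∀ i, (∀ y : U.toScheme, IsZero ((DerSch.stalkFunctor X (U.ι y)).obj (DCoh.HD K i))) → IsZero (DCoh.HD K' i) := fun i hy => by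
      refine IsZero.of_iso ?_ (SuppOpen.hdMapIso (Scheme.Modules.restrictFunctor U.ι) K i)
      refine ModStalk.isZero_of_stalks fun y => ?_
      exact ((ModuleCat.extendScalars.{u, u, u} (U.ι.stalkMap y).hom).map_isZero (hy y)).of_iso
        ((DerSch.stalkFunctor U.toScheme y).mapIso ((Scheme.Modules.restrictFunctorIsoPullback U.ι).app _) ≪≫
          (ModStalk.pullbackStalkIso U.ι y).app _)
    have hgeU : K'.IsGE c := by
      rw [DerivedCategory.isGE_iff]
      exact fun i hi => ((Scheme.Modules.restrictFunctor U.ι).map_isZero (DerivedCategory.isZero_of_isGE K c i hi)).of_iso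
        (SuppOpen.hdMapIso _ K i)
    have hleU : K'.IsLE (c - 1 + n) := by
      rw [DerivedCategory.isLE_iff]
      intro i hi
      by_cases hid : i = d
      · subst hid
        refine hHz i fun y => ModuleCat.isZero_of_iff_subsingleton.2 ?_
        exact not_not.1 y.2
      · exact ((Scheme.Modules.restrictFunctor U.ι).map_isZero (DerivedCategory.isZero_of_isLE K d i (by omega))).of_iso
          (SuppOpen.hdMapIso _ K i)
    obtain ⟨W, k, _, hxW, hW⟩ := ih K' (⟨x, hxU⟩ : U.toScheme) c hgeU hleU (fun m => DQCoh.psc_rd U.ι (hp m)) fun i =>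
      ((ModuleCat.extendScalars.{u, u, u} (U.ι.stalkMap ⟨x, hxU⟩).hom).map_isZero (hs i)).of_iso
        ((DerSch.stalkFunctor U.toScheme ⟨x, hxU⟩).mapIso (SuppOpen.hdMapIso (Scheme.Modules.restrictFunctor U.ι) K i ≪≫
          (Scheme.Modules.restrictFunctorIsoPullback U.ι).app _) ≪≫ (ModStalk.pullbackStalkIso U.ι ⟨x, hxU⟩).app _)
    obtain ⟨w, hw⟩ := hxW
    exact ⟨W, k ≫ U.ι, inferInstance, ⟨w, by rw [Scheme.Hom.comp_apply, hw]; rfl⟩,
      (Dual22Lib.RdComp.isZero_rd_comp_iff k U.ι K).1 hW⟩

/-- The stalk of a restriction, on modules. -/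
noncomputable def stalkRestrictIso {W : Scheme.{u}} (k : W ⟶ X) [IsOpenImmersion k] (y : W) :
    Scheme.Modules.restrictFunctor k ⋙ DerSch.stalkFunctor W y ≅
      DerSch.stalkFunctor X (k y) ⋙ ModuleCat.extendScalars.{u, u, u} (k.stalkMap y).hom :=
  Functor.isoWhiskerRight (Scheme.Modules.restrictFunctorIsoPullback k) _ ≪≫ ModStalk.pullbackStalkIso k y

/-- Two bounded pseudo-coherent objects with isomorphic stalks are isomorphic near the point, on an affine scheme. -/
theorem exists_nhd_iso_affine {B : CommRingCat.{u}} (y : Spec B) (E F : DCoh.D (Spec B)) (c d : ℤ) (hEc : E.IsGE c)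
    (hEd : E.IsLE d) (hFc : F.IsGE c) (hFd : F.IsLE d)
    (hE : ∀ m, DCoh.IsPseudoCoherentD m E) (hF : ∀ m, DCoh.IsPseudoCoherentD m F)
    (h : Nonempty ((DerSch.stalkFunctor (Spec B) y).mapDerivedCategory.obj E ≅
      (DerSch.stalkFunctor (Spec B) y).mapDerivedCategory.obj F)) :
    ∃ (W : Scheme.{u}) (k : W ⟶ Spec B) (_ : IsOpenImmersion k), y ∈ k.opensRange ∧
      Nonempty ((PerfLocal.rd k).obj E ≅ (PerfLocal.rd k).obj F) := by
  obtain ⟨ey⟩ := h
  haveI := AffSchLib.preservesFiniteLimits_tilde B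
  haveI := DQCoh.preservesFiniteColimits_tilde B
  obtain ⟨M, ⟨eM⟩⟩ := ((DQCoh.tildeD_main B).2.2 _).1 (DQCoh.isQCohD_of_psc hE)
  obtain ⟨N, ⟨eN⟩⟩ := ((DQCoh.tildeD_main B).2.2 _).1 (DQCoh.isQCohD_of_psc hF)
  obtain ⟨P, b, hb, hP, ⟨eP⟩⟩ := DRingLib.pc'_of_forall fun m => DQCoh.pc_of_psc_tildeD (PCTriangle.psc_iso eM.symm (hE m))
  haveI hNle : N.IsLE d := by
    haveI := hFd
    exact DQCoh.isLE_of_isLE_tildeD (DerivedCategory.TStructure.t.isLE_of_iso eN.symm d)
  haveI hNge : N.IsGE c := by
    haveI := hFc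
    haveI : ((DCoh.tildeD B).obj N).IsGE c := DerivedCategory.TStructure.t.isGE_of_iso eN.symm c
    rw [DerivedCategory.isGE_iff]
    intro i hi
    obtain ⟨η⟩ := DQCoh.nonempty_homology_natIso (tilde.functor B) i
    exact DQCoh.isZero_of_isZero_tilde ((DerivedCategory.isZero_of_isGE _ c i hi).of_iso (η.app N).symm)
  obtain ⟨L, hL₁, hL₂, ⟨eL⟩⟩ := DerivedCategory.exists_iso_Q_obj_of_isGE_of_isLE N c d
  let Ti := (tilde.functor B).mapHomologicalComplex (ComplexShape.up ℤ)
  let TP : DCoh.toD (Spec B) (Ti.obj P) ≅ E :=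
    ((tilde.functor B).mapDerivedCategoryFactors.app P).symm ≪≫ (DCoh.tildeD B).mapIso eP ≪≫ eM
  let TL : DCoh.toD (Spec B) (Ti.obj L) ≅ F :=
    ((tilde.functor B).mapDerivedCategoryFactors.app L).symm ≪≫ (DCoh.tildeD B).mapIso eL.symm ≪≫ eN
  let σ := stalkφ y
  letI := σ.toAlgebra
  haveI : IsLocalization.AtPrime ((Spec B).presheaf.stalk y) y.asIdeal := StructureSheaf.IsLocalization.to_stalk B y
  let Ex := (ModuleCat.extendScalars.{u, u, u} σ).mapHomologicalComplex (ComplexShape.up ℤ)
  let S := DerSch.stalkFunctor (Spec B) y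
  let st := fun (C : DRing.Cx B) => DerivedCategory.Q.mapIso ((NatIso.mapHomologicalComplex (tildeStalkIso y)
    (ComplexShape.up ℤ)).app C)
  let α : DerivedCategory.Q.obj (Ex.obj P) ≅ DerivedCategory.Q.obj (Ex.obj L) :=
    st P ≪≫ (S.mapDerivedCategoryFactors.app (Ti.obj P)).symm ≪≫ S.mapDerivedCategory.mapIso TP ≪≫ ey ≪≫
      S.mapDerivedCategory.mapIso TL.symm ≪≫ S.mapDerivedCategoryFactors.app (Ti.obj L) ≪≫ (st L).symm
  haveI : CochainComplex.IsKProjective (Ex.obj P) := isKProjective_of_vanishesAbove _ b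
    (fun i hi => (ModuleCat.extendScalars σ).map_isZero (hb i hi)) fun i => by
      haveI := (hP i).2
      haveI : Module.Projective B (P.X i) := Module.Projective.of_free
      exact (inferInstance : Module.Projective ((Spec B).presheaf.stalk y) (((Spec B).presheaf.stalk y) ⊗[B] (P.X i)))
  obtain ⟨φ, hφ⟩ := DRingLib.exists_Q_map α.hom
  haveI : IsIso (DerivedCategory.Q.map φ) := by rw [hφ]; infer_instance
  obtain ⟨ψ, w, hw, hψ⟩ := exists_descend (L := (Spec B).presheaf.stalk y) (B := B) y.asIdeal.primeCompl σ ‹_› P L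
    (fun i => by haveI := (hP i).1; haveI := (hP i).2; exact Module.finitePresentation_of_projective B (P.X i))
    (c := c) (e := d) (fun i hi => hi.elim (fun h => CochainComplex.isZero_of_isStrictlyGE L c i h)
      (fun h => CochainComplex.isZero_of_isStrictlyLE L d i h)) φ
  have hψi : IsIso (DerivedCategory.Q.map (Ex.map ψ)) := isIso_Q_of_smul φ (Ex.map ψ) w hw hψ
  let β : E ⟶ F := TP.inv ≫ DerivedCategory.Q.map (Ti.map ψ) ≫ TL.hom
  have hβ : IsIso (S.mapDerivedCategory.map β) := by
    have h1 : IsIso (S.mapDerivedCategory.map (DerivedCategory.Q.map (Ti.map ψ))) := by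
      refine (NatIso.isIso_map_iff S.mapDerivedCategoryFactors (Ti.map ψ)).2 ?_
      exact (NatIso.isIso_map_iff (Functor.isoWhiskerRight
        (NatIso.mapHomologicalComplex (tildeStalkIso y) (ComplexShape.up ℤ)) DerivedCategory.Q) ψ).1 hψi
    simp only [β, Functor.map_comp]
    infer_instance
  obtain ⟨C, g, h, hT⟩ := distinguished_cocone_triangle β
  have hC : IsZero (S.mapDerivedCategory.obj C) :=
    (Triangle.isZero₃_iff_isIso₁ _ (S.mapDerivedCategory.map_distinguished _ hT)).2 hβ
  have hCb : C.IsGE (c - 1) ∧ C.IsLE d := by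
    constructor
    · rw [DerivedCategory.isGE_iff]
      intro i hi
      refine ShortComplex.Exact.isZero_of_both_zeros (DerivedCategory.HomologySequence.exact₃ _ hT i (i + 1)) ?_ ?_
      · exact (DerivedCategory.isZero_of_isGE F c i (by omega)).eq_of_src _ _
      · exact (DerivedCategory.isZero_of_isGE E c (i + 1) (by omega)).eq_of_tgt _ _
    · rw [DerivedCategory.isLE_iff]
      intro i hi
      refine ShortComplex.Exact.isZero_of_both_zeros (DerivedCategory.HomologySequence.exact₃ _ hT i (i + 1)) ?_ ?_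
      · exact (DerivedCategory.isZero_of_isLE F d i hi).eq_of_src _ _
      · exact (DerivedCategory.isZero_of_isLE E d (i + 1) (by omega)).eq_of_tgt _ _
  have hle : C.IsLE (c - 1 - 1 + ((d - c + 2).toNat : ℤ)) := by
    rw [DerivedCategory.isLE_iff]
    intro i hi
    exact (DerivedCategory.isLE_iff _ _).1 hCb.2 i (by omega)
  obtain ⟨W, k, _, hy, hW⟩ := exists_nhd_isZero (d - c + 2).toNat C y (c - 1) hCb.1 hle
    (fun m => PCTriangle.psc_cone hT (hE (m + 1)) (hF m)) fun i => by
      obtain ⟨η⟩ := DQCoh.nonempty_homology_natIso S i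
      exact ((DerivedCategory.homologyFunctor _ i).map_isZero hC).of_iso (η.app C).symm
  refine ⟨W, k, inferInstance, hy, ⟨@asIso _ _ _ _ ((PerfLocal.rd k).map β) ?_⟩⟩
  haveI := PullPerf.preservesFiniteLimits_restrict k
  exact (Triangle.isZero₃_iff_isIso₁ _ ((PerfLocal.rd k).map_distinguished _ hT)).1 hW

end Groth.Agent.KSix16.StalkIsoNhd
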