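import Groth.Agent.Dual22Lib.PscPushApps
import Groth.Agent.FlatCx12.PscInduction
import Groth.Agent.CAlgH3.LocFreeFactor
import Groth.Agent.Dual22Lib.RpushBound
import Groth.Agent.FlatCx12.RelPCThick
import Groth.Agent.Coherent.ProjFormula
import Groth.Agent.KPr28.FibreReg
import Groth.Agent.Desc19b.ResProp
import Groth.Agent.DQCoh.ResPropD17
import Groth.Agent.KoszPn17.TwistGen
import Groth.Agent.CohExch.ChartMain
import Groth.Agent.CAlgSmall.FPExtend
import Groth.Agent.Coherent.CohBC.HomSheaf

/-!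
# Twists of pseudo-coherent objects on projective spaces are eventually acyclic
-/

set_option autoImplicit false
set_option backward.isDefEq.respectTransparency false
set_option backward.defeqAttrib.useBackward true
set_option linter.style.haveILetI false
set_option synthInstance.maxHeartbeats 100000
set_option backward.isDefEq.respectTransparency.types false

universe u

open CategoryTheory CategoryTheory.Limits CategoryTheory.Pretriangulated DerivedCategory MonoidalCategory AlgebraicGeometry
open Groth.Agent.DCat HomologicalComplex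

attribute [local instance] HasDerivedCategory.standard
attribute [-instance] Int.instConditionallyCompleteLinearOrder

namespace Groth.Agent.KSix16.TwistVanish

variable {X Y : Scheme.{u}}

/-- The two tensor products by a module. -/
noncomputable def rightIso (M : X.Modules) : DCoh.tensorRightMod M ≅ Coherent.tensE M :=
  Functor.isoWhiskerLeft DCoh.toP (Functor.isoWhiskerRight
    (BraidedCategory.tensorLeftIsoTensorRight (CohB1.toPMod M)).symm DCoh.shP)

/-- Derived tensor product with a locally free module. -/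
theorem nonempty_ltensorMod (M : X.Modules) [DCoh.HasLTensorMod M] [PreservesFiniteLimits (Coherent.tensE M)]
    [PreservesFiniteColimits (Coherent.tensE M)] (K : DCoh.D X) :
    Nonempty ((DCoh.LTensorMod M).obj K ≅ (Coherent.tensE M).mapDerivedCategory.obj K) := by
  obtain ⟨P, c, hP, -, hc, -⟩ := exists_kflat_sheaf (DerivedCategory.Q.objPreimage K)
  haveI := hc
  let e : DCoh.toD X P ≅ K := asIso (DerivedCategory.Q.map c) ≪≫ DerivedCategory.Q.objObjPreimageIso K
  exact ⟨(DCoh.LTensorMod M).mapIso e.symm ≪≫ ltensorModIso M hP ≪≫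
    DerivedCategory.Q.mapIso ((NatIso.mapHomologicalComplex (rightIso M) (ComplexShape.up ℤ)).app P) ≪≫
    ((Coherent.tensE M).mapDerivedCategoryFactors.app P).symm ≪≫ (Coherent.tensE M).mapDerivedCategory.mapIso e⟩

/-- Approximations by strictly perfect complexes. -/
theorem exists_approx_D [CompactSpace X] [QuasiSeparatedSpace X] (hX : PerfAux.HasResolutionProperty X) (K : DCoh.D X)
    (hK : ∀ m, DCoh.IsPseudoCoherentD m K) (m : ℤ) :
    ∃ (G : CochainComplex X.Modules ℤ) (α : DerivedCategory.Q.obj G ⟶ K), DCoh.IsStrictlyPerfect G ∧ PullPerf.Apx m α := by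
  have hdiag : ∀ U V : X.Opens, IsAffineOpen U → IsAffineOpen V → IsAffineOpen (U ⊓ V) := fun U V hU hV =>
    Desc19b.isAffineOpen_inf_of_resolution hX hU hV
  obtain ⟨M, ⟨e⟩⟩ := (DQCoh.DQCohEquiv17.isQCohD_iff hdiag K).1 (DQCoh.isQCohD_of_psc hK)
  let ι := (DQCoh.DQCohEquiv17.QP X).ι
  let N := DerivedCategory.Q.objPreimage M
  let F := (ι.mapHomologicalComplex (ComplexShape.up ℤ)).obj N
  let eF : DerivedCategory.Q.obj F ≅ K :=
    (ι.mapDerivedCategoryFactors.app N).symm ≪≫ ι.mapDerivedCategory.mapIso (DerivedCategory.Q.objObjPreimageIso M) ≪≫ e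
  obtain ⟨G, v, hG, -, hv⟩ := DQCoh.ResProp17.exists_approx hX F (fun n => (N.X n).property)
    (fun k => PCTriangle.psc_iso eF.symm (hK k)) m
  refine ⟨G, DerivedCategory.Q.map v ≫ eF.hom, hG, fun i hi => ?_, ?_⟩
  · haveI := hv.1 i hi
    haveI : IsIso ((DerivedCategory.homologyFunctor X.Modules i).map (DerivedCategory.Q.map v)) :=
      (NatIso.isIso_map_iff (DerivedCategory.homologyFunctorFactors X.Modules i) v).2 ‹IsIso (HomologicalComplex.homologyMap v i)›
    rw [Functor.map_comp]
    infer_instance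
  · have h := (DerivedCategory.homologyFunctorFactors X.Modules m).hom.naturality v
    haveI := hv.2
    haveI : Epi ((DerivedCategory.homologyFunctor X.Modules m).map (DerivedCategory.Q.map v)) := by
      have h' : (DerivedCategory.homologyFunctor X.Modules m).map (DerivedCategory.Q.map v) =
          (DerivedCategory.homologyFunctorFactors X.Modules m).hom.app G ≫ HomologicalComplex.homologyMap v m ≫
            (DerivedCategory.homologyFunctorFactors X.Modules m).inv.app F := by
        have h1 := congrArg (· ≫ (DerivedCategory.homologyFunctorFactors X.Modules m).inv.app F) h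
        simp only [Category.assoc, Iso.hom_inv_id_app] at h1
        simpa using h1
      rw [h']
      infer_instance
    rw [Functor.map_comp]
    infer_instance

/-- An exact functor preserves approximations. -/
theorem apx_map (T : X.Modules ⥤ X.Modules) [T.Additive] [PreservesFiniteLimits T] [PreservesFiniteColimits T]
    {K L : DCoh.D X} (α : K ⟶ L) {m : ℤ} (h : PullPerf.Apx m α) : PullPerf.Apx m (T.mapDerivedCategory.map α) := by
  obtain ⟨C, g, w, hT⟩ := distinguished_cocone_triangle α
  have hC : C.IsLE (m - 1) := (PullPerf.apx_iff_isLE m _ hT).1 h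
  refine (PullPerf.apx_iff_isLE m _ (T.mapDerivedCategory.map_distinguished _ hT)).2 ?_
  rw [DerivedCategory.isLE_iff]
  intro i hi
  exact (T.map_isZero (DerivedCategory.isZero_of_isLE C (m - 1) i hi)).of_iso (SuppOpen.hdMapIso T C i)

/-- Tensor products with locally free modules preserve pseudo-coherence. -/
theorem psc_tensor [CompactSpace X] [QuasiSeparatedSpace X] (hX : PerfAux.HasResolutionProperty X) {M : X.Modules}
    (hM : FlatMod.IsFinLocFree M) [PreservesFiniteLimits (Coherent.tensE M)]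
    [PreservesFiniteColimits (Coherent.tensE M)] (K : DCoh.D X) (hK : ∀ m, DCoh.IsPseudoCoherentD m K) (m : ℤ) :
    DCoh.IsPseudoCoherentD m ((Coherent.tensE M).mapDerivedCategory.obj K) := by
  obtain ⟨G, α, hG, hα⟩ := exists_approx_D hX K hK m
  let T := Coherent.tensE M
  have hTG : DCoh.IsStrictlyPerfect ((T.mapHomologicalComplex (ComplexShape.up ℤ)).obj G) := by
    obtain ⟨⟨a, b, hab⟩, hf⟩ := hG
    exact ⟨⟨a, b, fun i hi => T.map_isZero (hab i hi)⟩, fun i => PerfTensor.isFinLocFree_tensor hM (hf i)⟩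
  exact PCTriangle.psc_of_gpsc ⟨_, (T.mapDerivedCategoryFactors.app G).inv ≫ T.mapDerivedCategory.map α, hTG,
    (PullPerf.apx_of_isIso m _).comp (apx_map T α hα)⟩

/-- Direct images of bounded complexes of acyclic modules. -/
theorem isLE_Rpush_of_terms (f : X ⟶ Y) [DCoh.HasRpush f] (a : ℤ) : ∀ (k : ℕ) (G : CochainComplex X.Modules ℤ),
    (∀ i, a < i → IsZero (G.X i)) → (∀ i, i < a + 1 - k → IsZero (G.X i)) →
    (∀ i, ((DCoh.Rpush f).obj (DCoh.inD X (G.X i))).IsLE 0) → ((DCoh.Rpush f).obj (DCoh.toD X G)).IsLE a := by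
  obtain ⟨_, _⟩ := exists_commShift_Rpush f
  intro k
  induction k with
  | zero =>
    intro G hgt hlt _
    have hG : IsZero G := (IsZero.iff_id_eq_zero _).2 (HomologicalComplex.hom_ext _ _ fun i => by
      by_cases h : a < i
      · exact (hgt i h).eq_of_src _ _
      · exact (hlt i (by omega)).eq_of_src _ _)
    exact (DerivedCategory.isLE_iff _ _).2 fun i _ => Functor.map_isZero _
      ((DCoh.Rpush f).map_isZero (DerivedCategory.Q.map_isZero hG))
  | succ k ih =>
    intro G hgt hlt hterm
    obtain ⟨b, hb⟩ : ∃ b : ℤ, b = a + 1 - k := ⟨_, rfl⟩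
    obtain ⟨P, ι, hι, hPlt, hPge⟩ := DQCoh.exists_stupid G b
    haveI := hι
    have hS : (ShortComplex.mk ι (cokernel.π ι) (cokernel.condition ι)).ShortExact :=
      { exact := ShortComplex.exact_cokernel ι, mono_f := hι, epi_g := inferInstanceAs (Epi (cokernel.π ι)) }
    have hn := fun n => hS.map_of_exact (HomologicalComplex.eval X.Modules (ComplexShape.up ℤ) n)
    have hP : ((DCoh.Rpush f).obj (DCoh.toD X P)).IsLE a := by
      refine ih P (fun i hi => ?_) (fun i hi => hPlt i (by omega)) fun i => ?_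
      · by_cases h : b ≤ i
        · haveI := hPge i h
          exact (hgt i hi).of_iso (asIso (ι.f i))
        · exact hPlt i (by omega)
      · by_cases h : b ≤ i
        · haveI := hPge i h
          exact DerivedCategory.TStructure.t.isLE_of_iso
            ((DCoh.Rpush f).mapIso ((singleFunctor X.Modules 0).mapIso (asIso (ι.f i)).symm)) 0
        · exact DerivedCategory.TStructure.t.isLE_of_isZero
            ((DCoh.Rpush f).map_isZero ((singleFunctor X.Modules 0).map_isZero (hPlt i (by omega)))) 0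
    have hQ : ((DCoh.Rpush f).obj (DCoh.toD X (cokernel ι))).IsLE a := by
      obtain ⟨c, hc⟩ : ∃ c : ℤ, c = a - k := ⟨_, rfl⟩
      have hz : ∀ i, i ≠ c → IsZero ((cokernel ι).X i) := fun i hi => by
        rcases lt_or_gt_of_ne hi with h | h
        · haveI : IsIso ((cokernel.π ι).f i) := (hn i).isIso_g_iff.2 (hPlt i (by omega))
          exact (hlt i (by omega)).of_iso (asIso ((cokernel.π ι).f i)).symm
        · haveI := hPge i (by omega)
          exact (hn i).isIso_f_iff.1 (show IsIso (ι.f i) from inferInstance)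
      haveI : CochainComplex.IsStrictlyGE (cokernel ι) c := (CochainComplex.isStrictlyGE_iff _ _).2 fun i hi => hz i (by omega)
      haveI : CochainComplex.IsStrictlyLE (cokernel ι) c := (CochainComplex.isStrictlyLE_iff _ _).2 fun i hi => hz i (by omega)
      obtain ⟨M, ⟨j⟩⟩ := CochainComplex.exists_iso_single (cokernel ι) c
      haveI : IsIso ((cokernel.π ι).f c) := (hn c).isIso_g_iff.2 (hPlt c (by omega))
      let eM : G.X c ≅ M := asIso ((cokernel.π ι).f c) ≪≫ HomologicalComplex.Hom.isoApp j c ≪≫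
        HomologicalComplex.singleObjXSelf (ComplexShape.up ℤ) c M
      haveI h0 : ((DCoh.Rpush f).obj (DCoh.inD X M)).IsLE 0 :=
        haveI := hterm c
        DerivedCategory.TStructure.t.isLE_of_iso ((DCoh.Rpush f).mapIso ((singleFunctor X.Modules 0).mapIso eM)) 0
      haveI : (((DCoh.Rpush f).obj (DCoh.inD X M))⟦-c⟧).IsLE a := by
        haveI := DerivedCategory.TStructure.t.isLE_shift ((DCoh.Rpush f).obj (DCoh.inD X M)) 0 (-c) c (by omega)
        exact DerivedCategory.TStructure.t.isLE_of_le _ c _ (by omega)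
      haveI : DerivedCategory.TStructure.t.IsLE ((DCoh.Rpush f ⋙ shiftFunctor (DCoh.D Y) (-c)).obj (DCoh.inD X M)) a :=
        ‹(((DCoh.Rpush f).obj (DCoh.inD X M))⟦-c⟧).IsLE a›
      exact DerivedCategory.TStructure.t.isLE_of_iso ((DCoh.Rpush f).mapIso
        (DerivedCategory.Q.mapIso j ≪≫ FlatCx12.PscInduction.singleShiftIso M c) ≪≫
        ((DCoh.Rpush f).commShiftIso (-c)).app _).symm a
    exact DerivedCategory.TStructure.t.isLE₂ _
      ((DCoh.Rpush f).map_distinguished _ (DerivedCategory.triangleOfSES_distinguished hS)) a hP hQ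

/-- A bounded locally free complex exact above `a` is one in degrees `≤ a`. -/
theorem exists_le_model (a : ℤ) : ∀ (k : ℕ) (G : CochainComplex X.Modules ℤ) (c : ℤ),
    (∀ i, i < c ∨ a + k < i → IsZero (G.X i)) → (∀ i, FlatMod.IsFinLocFree (G.X i)) → (∀ i, a < i → G.ExactAt i) →
    ∃ (G' : CochainComplex X.Modules ℤ), (∀ i, i < c ∨ a < i → IsZero (G'.X i)) ∧
      (∀ i, FlatMod.IsFinLocFree (G'.X i)) ∧ Nonempty (DCoh.toD X G' ≅ DCoh.toD X G) := by
  intro k
  induction k with
  | zero => exact fun G c hz hf _ => ⟨G, fun i hi => hz i (by omega), hf, ⟨Iso.refl _⟩⟩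
  | succ k ih =>
    intro G c hz hf hex
    obtain ⟨b, hb⟩ : ∃ b : ℤ, b = a + k := ⟨_, rfl⟩
    haveI : G.IsLE b := (CochainComplex.isLE_iff _ _).2 fun i hi => hex i (by omega)
    haveI : Epi (G.d b (b + 1)) := by
      have h1 := hex (b + 1) (by omega)
      rw [HomologicalComplex.exactAt_iff' _ b (b + 1) (b + 1 + 1) (by simp) (by simp)] at h1
      exact h1.epi_f ((hz (b + 1 + 1) (Or.inr (by omega))).eq_of_tgt _ _)
    have hker : FlatMod.IsFinLocFree (G.cycles b) := PerfTensor.isFinLocFree_of_iso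
      ((G.cyclesIsKernel b (b + 1) (by simp)).conePointUniqueUpToIso (limit.isLimit _)).symm
      (KoszPn17.isFinLocFree_kernel (G.d b (b + 1)) (hf b) (hf (b + 1)))
    have hzb : ∀ i, i < c ∨ a + k < i → IsZero ((G.truncLE b).X i) := fun i hi => by
      rcases hi with hi | hi
      · rcases lt_trichotomy i b with h | rfl | h
        · exact (hz i (Or.inl hi)).of_iso (G.truncLEXIso b i h)
        · refine IsZero.of_iso ?_ (G.truncLEXIsoCycles i)
          exact (IsZero.iff_id_eq_zero _).2 ((cancel_mono (G.iCycles i)).1 ((hz i (Or.inl hi)).eq_of_tgt _ _))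
        · exact CochainComplex.isZero_of_isStrictlyLE _ b i h
      · exact CochainComplex.isZero_of_isStrictlyLE _ b i (by omega)
    have hfb : ∀ i, FlatMod.IsFinLocFree ((G.truncLE b).X i) := fun i => by
      rcases lt_trichotomy i b with h | rfl | h
      · exact PerfTensor.isFinLocFree_of_iso (G.truncLEXIso b i h).symm (hf i)
      · exact PerfTensor.isFinLocFree_of_iso (G.truncLEXIsoCycles i).symm hker
      · exact PerfTensor.isFinLocFree_of_isZero (CochainComplex.isZero_of_isStrictlyLE _ b i h)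
    obtain ⟨G', hz', hf', ⟨e⟩⟩ := ih (G.truncLE b) c hzb hfb fun i hi => by
      exact (exactAt_iff_of_quasiIsoAt (G.ιTruncLE b) i).2 (hex i hi)
    exact ⟨G', hz', hf', ⟨e ≪≫ @asIso _ _ _ _ (DerivedCategory.Q.map (G.ιTruncLE b))
      ((DerivedCategory.isIso_Q_map_iff_quasiIso _ _).2 inferInstance)⟩⟩

/-- Uniform vanishing for twists of a locally free module. -/
theorem exists_bound_module [IsAffine Y] (r : ℕ) [DCoh.HasRpush (CohB1.ProjSpaceOver.toBase r Y)]
    {M : (KRR.PY r Y).Modules} (hM : FlatMod.IsFinLocFree M) :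
    ∃ N : ℕ, ∀ n : ℤ, (N : ℤ) ≤ n → ((DCoh.Rpush (CohB1.ProjSpaceOver.toBase r Y)).obj
      (DCoh.inD _ ((Coherent.tensE (Twist.twistOver r Y n)).obj M))).IsLE 0 := by
  haveI : IsProper (KRR.pr r Y) := RelVALib.isProper_toBase r Y
  haveI : LocallyOfFinitePresentation (KRR.pr r Y) := KPr28.locallyOfFinitePresentation_pr r Y
  haveI : Flat (KRR.pr r Y) := Coherent.flat_toBase r Y
  haveI : HasInjectiveResolutions (KRR.PY r Y).Modules := Coherent.hasInjectiveResolutions_modules _
  haveI := CAlgH3.LocFreeFactor.isQCoh_of_finLocFree hM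
  have hF : CohB1.IsFP M := Props12.isFP_of_isFinLocFree _ hM
  have hfl : FlatMod.IsFlatOver (KRR.pr r Y) M := Coherent.CohBC.isFlatOver_of_isFinLocFree _ hM
  obtain ⟨N, hN⟩ := KPr28.exists_bound_fibres hF hfl
  refine ⟨N, fun n hn => (DerivedCategory.isLE_iff _ _).2 fun i hi => ?_⟩
  obtain ⟨q, rfl⟩ := Int.eq_ofNat_of_zero_le hi.le
  haveI := KPr28.Gen.isQCoh_twF (F := M) n
  obtain ⟨b⟩ := FlatBC14.nonempty_homology_Rpush (KRR.pr r Y) (KRR.twF r Y n M) q
  exact IsZero.of_iso (CohExch.isZero_rpush_of_fibres (KPr28.isFP_twF hF n) (KPr28.isFlatOver_twF hfl n) q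
    (hN n hn q (by omega))) b

/-- Twists of a bounded above pseudo-coherent object on projective space over an affine scheme. -/
theorem exists_twist_isLE [IsAffine Y] (r : ℕ) [DCoh.HasRpush (CohB1.ProjSpaceOver.toBase r Y)]
    (K : DCoh.D (KRR.PY r Y)) (hK : ∀ m, DCoh.IsPseudoCoherentD m K) (a : ℤ) [K.IsLE a] :
    PerfAux.HasResolutionProperty (KRR.PY r Y) ∧
    ∃ N : ℕ, ∀ n : ℤ, (N : ℤ) ≤ n →
      ∀ [PreservesFiniteLimits (Coherent.tensE (Twist.twistOver r Y n))]
        [PreservesFiniteColimits (Coherent.tensE (Twist.twistOver r Y n))],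
      (∀ m, DCoh.IsPseudoCoherentD m ((Coherent.tensE (Twist.twistOver r Y n)).mapDerivedCategory.obj K)) ∧
      ((DCoh.Rpush (CohB1.ProjSpaceOver.toBase r Y)).obj
        ((Coherent.tensE (Twist.twistOver r Y n)).mapDerivedCategory.obj K)).IsLE a := by
  let p := CohB1.ProjSpaceOver.toBase r Y
  haveI : IsProper p := RelVALib.isProper_toBase r Y
  haveI : CompactSpace ↥(KRR.PY r Y) := QuasiCompact.compactSpace_of_compactSpace p
  haveI : QuasiSeparatedSpace ↥(KRR.PY r Y) := quasiSeparatedSpace_of_quasiSeparated p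
  have hX : PerfAux.HasResolutionProperty (KRR.PY r Y) :=
    Desc19b.hasResolutionProperty_of_isAmple KPr28.Gen.isAmple_twist
  refine ⟨hX, ?_⟩
  obtain ⟨N₀, hN₀⟩ := Dual22Lib.SupportAdj.exists_isLE_Rpush p
  obtain ⟨m, hm, hm'⟩ : ∃ m : ℤ, m + N₀ < a ∧ m < a := ⟨min (a - N₀) a - 1, by omega, by omega⟩
  obtain ⟨G, α, ⟨⟨c, d, hcd⟩, hf⟩, hα⟩ := exists_approx_D hX K hK m
  have hex : ∀ i, a < i → G.ExactAt i := fun i hi => by
    rw [← DCat.isZero_HD_toD_iff]
    haveI := hα.1 i (by omega)
    exact (DerivedCategory.isZero_of_isLE K a i hi).of_iso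
      (asIso ((DerivedCategory.homologyFunctor _ i).map α))
  obtain ⟨G', hz, hf', ⟨e⟩⟩ := exists_le_model a (d - a).toNat G c (fun i hi => hcd i (by omega)) hf hex
  choose Nf hNf using fun i => exists_bound_module r (hf' i)
  refine ⟨(Finset.Icc c a).sup Nf, fun n hn => ?_⟩
  intro _ _
  let L := Twist.twistOver r Y n
  let T := Coherent.tensE L
  have hL : FlatMod.IsFinLocFree L := KPr28.Gen.isFinLocFree_twistOver n
  have hpsc : ∀ j, DCoh.IsPseudoCoherentD j (T.mapDerivedCategory.obj K) := psc_tensor hX hL K hK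
  refine ⟨hpsc, ?_⟩
  let α' := e.hom ≫ α
  have hα' : PullPerf.Apx m α' := (PullPerf.apx_of_isIso m e.hom).comp hα
  obtain ⟨C, g, w, hT⟩ := distinguished_cocone_triangle (T.mapDerivedCategory.map α')
  have hC : C.IsLE (m - 1) := (PullPerf.apx_iff_isLE m _ hT).1 (apx_map T α' hα')
  let TG := (T.mapHomologicalComplex (ComplexShape.up ℤ)).obj G'
  have hG : ((DCoh.Rpush p).obj (T.mapDerivedCategory.obj (DCoh.toD _ G'))).IsLE a := by
    haveI : DerivedCategory.TStructure.t.IsLE ((DCoh.Rpush p).obj ((T.mapHomologicalComplex (ComplexShape.up ℤ) ⋙ DerivedCategory.Q).obj G')) a := by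
      show ((DCoh.Rpush p).obj (DCoh.toD _ TG)).IsLE a
      refine isLE_Rpush_of_terms p a (a + 1 - c).toNat TG (fun i hi => T.map_isZero (hz i (Or.inr hi)))
        (fun i hi => T.map_isZero (hz i (Or.inl (by omega)))) fun i => ?_
      by_cases hi : i ∈ Finset.Icc c a
      · exact hNf i n (le_trans (by exact_mod_cast Finset.le_sup hi) hn)
      · exact DerivedCategory.TStructure.t.isLE_of_isZero ((DCoh.Rpush p).map_isZero
          ((singleFunctor _ 0).map_isZero (T.map_isZero (hz i (by
            simp only [Finset.mem_Icc, not_and_or, not_le] at hi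
            exact hi))))) 0
    exact DerivedCategory.TStructure.t.isLE_of_iso ((DCoh.Rpush p).mapIso (T.mapDerivedCategoryFactors.app G').symm) a
  have hGq : DCoh.IsQCohD (T.mapDerivedCategory.obj (DCoh.toD _ G')) :=
    DQCoh.isQCohD_of_psc fun j => psc_tensor hX hL _ (fun l => PCTriangle.psc_of_gpsc
      ⟨G', 𝟙 _, ⟨⟨c, a, hz⟩, hf'⟩, PullPerf.apx_of_isIso l _⟩) j
  have hCq : DCoh.IsQCohD C := DQCoh.isQCohD_obj₃ hT hGq (DQCoh.isQCohD_of_psc hpsc)
  haveI h3 : ((DCoh.Rpush p).obj C).IsLE (m - 1 + N₀) := hN₀ C _ hCq hC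
  obtain ⟨_, _⟩ := exists_commShift_Rpush p
  exact DerivedCategory.TStructure.t.isLE₂ _ ((DCoh.Rpush p).map_distinguished _ hT) a hG
    (@Triangulated.TStructure.isLE_of_le _ _ _ _ _ _ _ DerivedCategory.TStructure.t _ (m - 1 + N₀) a (by omega) h3)

end Groth.Agent.KSix16.TwistVanish
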